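import Cfsg.Agent.Lib.SmallOrders.O4320
import Cfsg.Agent.Lib.SmallOrders.ColumnFiveCases
import Cfsg.Agent.Lib.Spectrum.FixityTwoSylow

/-!
Order `4320`: two hundred and sixteen Sylow subgroups of order five, automiser of order two.
-/

set_option autoImplicit false

universe u

namespace CfsgLib.SmallOrders

open Subgroup MulAction CfsgLib.SmallGroups

section

variable {G : Type u} [Group G] [Finite G]

/-- The index of a centraliser inside `H` is at most the number of conjugates. -/
theorem index_centralizer_subgroupOf_le (H : Subgroup G) (y : G) (S : Finset G)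
    (hS : ∀ h ∈ H, h * y * h⁻¹ ∈ S) : ((centralizer ({y} : Set G)).subgroupOf H).index ≤ S.card := by
  let f : H ⧸ (centralizer ({y} : Set G)).subgroupOf H → {x // x ∈ S} :=
    Quotient.lift (fun h => ⟨(h : G) * y * (h : G)⁻¹, hS h h.2⟩) fun a b hab => Subtype.ext (by
      have h1 : (a : G)⁻¹ * b ∈ centralizer ({y} : Set G) :=
        mem_subgroupOf.mp (QuotientGroup.leftRel_apply.mp hab)
      have h2 := mem_centralizer_singleton_iff.mp h1
      show (a : G) * y * (a : G)⁻¹ = b * y * (b : G)⁻¹
      calc (a : G) * y * (a : G)⁻¹ = a * (y * ((a : G)⁻¹ * b)) * (b : G)⁻¹ := by group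
        _ = a * ((a : G)⁻¹ * b * y) * (b : G)⁻¹ := by rw [h2]
        _ = b * y * (b : G)⁻¹ := by group)
  have hf : Function.Injective f := by
    rintro ⟨a⟩ ⟨b⟩ e
    have e' : (a : G) * y * (a : G)⁻¹ = b * y * (b : G)⁻¹ := congrArg Subtype.val e
    refine QuotientGroup.eq.mpr (mem_subgroupOf.mpr (mem_centralizer_singleton_iff.mpr ?_))
    show (a : G)⁻¹ * b * y = y * ((a : G)⁻¹ * b)
    calc (a : G)⁻¹ * b * y = (a : G)⁻¹ * (b * y * (b : G)⁻¹) * b := by group
      _ = (a : G)⁻¹ * (a * y * (a : G)⁻¹) * b := by rw [e']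
      _ = y * ((a : G)⁻¹ * b) := by group
  have := Nat.card_le_card_of_injective f hf
  rwa [← index_eq_card, Nat.card_eq_fintype_card, Fintype.card_coe] at this

/-- Four Sylow `3`-subgroups in a group of order `12` leave at most three involutions. -/
theorem card_involutions_le_of_four_sylow (hG : Nat.card G = 12) (h4 : 4 ≤ Nat.card (Sylow 3 G)) :
    Nat.card {x : G // x * x = 1 ∧ x ≠ 1} ≤ 3 := by
  classical
  have : Fact (Nat.Prime 3) := ⟨Nat.prime_three⟩
  have hSc : ∀ T : Sylow 3 G, Nat.card ↥(T : Subgroup G) = 3 := fun T => by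
    simpa using card_sylow_eq (p := 3) (a := 1) (m := 4) (by rw [hG]; norm_num) (by norm_num) T
  have hex : ∀ T : Sylow 3 G, ∃ y ∈ (T : Subgroup G), orderOf y = 3 := fun T =>
    exists_mem_orderOf (p := 3) (T : Subgroup G) (by rw [hSc T])
  choose r hrT hr using hex
  let f : Sylow 3 G × Fin 2 → G := fun T => r T.1 ^ ((T.2 : ℕ) + 1)
  have hf3 : ∀ T, f T ^ 3 = 1 ∧ f T ≠ 1 := by
    rintro ⟨T, i⟩
    refine ⟨?_, fun e => ?_⟩
    · have h3 := pow_orderOf_eq_one (r T)
      rw [hr T] at h3
      show (r T ^ ((i : ℕ) + 1)) ^ 3 = 1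
      rw [← pow_mul, mul_comm, pow_mul, h3, one_pow]
    · have := orderOf_dvd_of_pow_eq_one e
      rw [hr T] at this
      have := Nat.le_of_dvd (by omega) this
      fin_cases i <;> simp at *
  have hfinj : Function.Injective f := by
    rintro ⟨T, i⟩ ⟨T', j⟩ e
    have h1 := zpowers_eq_sylow T (hSc T) (pow_mem (hrT T) ((i : ℕ) + 1)) (hf3 (T, i)).2
    have h2 := zpowers_eq_sylow T' (hSc T') (pow_mem (hrT T') ((j : ℕ) + 1)) (hf3 (T', j)).2
    have e' : r T ^ ((i : ℕ) + 1) = r T' ^ ((j : ℕ) + 1) := e
    rw [e', h2] at h1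
    obtain rfl : T' = T := Sylow.ext h1
    have := pow_injOn_Iio_orderOf (x := r T') (show (i : ℕ) + 1 < orderOf (r T') by rw [hr]; omega)
      (show (j : ℕ) + 1 < orderOf (r T') by rw [hr]; omega) e
    simp only [add_left_inj] at this
    exact Prod.ext rfl (Fin.ext this)
  let Φ : Option ({x : G // x * x = 1 ∧ x ≠ 1} ⊕ (Sylow 3 G × Fin 2)) → G := fun o => match o with
    | none => 1
    | some (Sum.inl x) => x
    | some (Sum.inr T) => f T
  have hΦ : Function.Injective Φ := by
    have hmix : ∀ (x : {x : G // x * x = 1 ∧ x ≠ 1}) T, (x : G) ≠ f T := fun x T e => by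
      have h := (hf3 T).1
      rw [← e, pow_succ, pow_two, x.2.1, one_mul] at h
      exact x.2.2 h
    rintro (_ | (x | T)) (_ | (x' | T')) e
    · rfl
    · exact absurd (show (x' : G) = 1 from e.symm) x'.2.2
    · exact absurd (show f T' = 1 from e.symm) (hf3 T').2
    · exact absurd (show (x : G) = 1 from e) x.2.2
    · exact congrArg (some ∘ Sum.inl) (Subtype.ext e)
    · exact absurd e (hmix x T')
    · exact absurd (show f T = 1 from e) (hf3 T).2
    · exact absurd e.symm (hmix x' T)
    · exact congrArg (some ∘ Sum.inr) (hfinj e)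
  have := Nat.card_le_card_of_injective Φ hΦ
  rw [Finite.card_option, Nat.card_sum, Nat.card_prod, hG, Nat.card_eq_fintype_card (α := Fin 2),
    Fintype.card_fin] at this
  omega

end

variable {G : Type u} [Group G] [Finite G] [IsSimpleGroup G]

set_option maxHeartbeats 2000000 in
theorem false_of_216_4320 (h : Nat.card G = 4320) [Fact (Nat.Prime 5)] (P : Sylow 5 G)
    (hn : Nat.card (Sylow 5 G) = 216) : False := by
  classical
  have hG := not_isMulCommutative_of_card_eq h (by norm_num)
  have : Fact (Nat.Prime 2) := ⟨Nat.prime_two⟩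
  have : Fact (Nat.Prime 3) := ⟨Nat.prime_three⟩
  obtain ⟨c, e, hC, hN, he1, he, hne⟩ := sylow_prime_data hG (p := 5) (m := 864) h (by norm_num) P
  rw [hn] at hne
  have he4 : e ∣ 4 := he
  have hce : (c = 1 ∧ e = 4) ∨ (c = 2 ∧ e = 2) := by
    have := Nat.le_of_dvd (by norm_num) he4
    interval_cases e <;> omega
  have hP5 : Nat.card ↥(P : Subgroup G) = 5 := by
    simpa using card_sylow_eq (p := 5) (a := 1) (m := 864) (by rw [h]; norm_num) (by norm_num) P
  rcases hce with ⟨rfl, rfl⟩ | ⟨rfl, rfl⟩
  · exact false_of_column_4320 h P hP5 hC hN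
  set N := normalizer ((P : Subgroup G) : Set G) with hNdef
  set CP := centralizer ((P : Subgroup G) : Set G) with hCPdef
  have hCN : CP ≤ N := centralizer_le_normalizer _
  have hN20 : Nat.card N = 20 := by rw [hN]
  obtain ⟨q, hqP, hq⟩ := exists_mem_orderOf (p := 5) (P : Subgroup G) (by rw [hP5])
  have hzq := zpowers_eq_sylow P hP5 hqP (ne_one_of_orderOf hq)
  obtain ⟨u, huC, hu⟩ := exists_mem_orderOf (p := 2) CP (by rw [hC]; norm_num)
  have huu : u * u = 1 := by rw [← pow_two, ← hu, pow_orderOf_eq_one]
  have huniq : ∀ x ∈ CP, x * x = 1 → x ≠ 1 → x = u := by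
    have hqC : q ∈ CP := by
      refine mem_centralizer_iff.mpr fun y hy => ?_
      have hy' : y ∈ zpowers q := hzq.symm ▸ hy
      obtain ⟨i, rfl⟩ := mem_zpowers_iff.mp hy'
      exact ((Commute.refl q).zpow_left i).eq
    let Φ : {x : CP // x * x = 1} × Fin 5 → CP := fun z => (z.1 : CP) * ⟨q, hqC⟩ ^ (z.2 : ℕ)
    have hΦ : Function.Injective Φ := by
      rintro ⟨x, i⟩ ⟨x', j⟩ e
      have hcomm : ∀ (z : CP) (n : ℕ), Commute z ((⟨q, hqC⟩ : CP) ^ n) := fun z n =>
        (show Commute z (⟨q, hqC⟩ : CP) from Subtype.ext (mem_centralizer_iff.mp z.2 q hqP).symm).pow_right n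
      have hq' : orderOf (⟨q, hqC⟩ : CP) = 5 := by rw [← Subgroup.orderOf_coe]; exact hq
      have hq5 : ∀ n : ℕ, ((⟨q, hqC⟩ : CP) ^ n) ^ 5 = 1 := fun n => by
        rw [← pow_mul, mul_comm, pow_mul, show (⟨q, hqC⟩ : CP) ^ 5 = 1 from hq' ▸ pow_orderOf_eq_one _, one_pow]
      have hx5 : ∀ z : {x : CP // x * x = 1}, (z : CP) ^ 5 = z := fun z => by
        rw [show 5 = 2 * 2 + 1 from rfl, pow_succ, pow_mul, pow_two (z : CP), z.2, one_pow, one_mul]
      have e5 : Φ (x, i) ^ 5 = Φ (x', j) ^ 5 := by rw [e]
      simp only [Φ, (hcomm _ _).mul_pow, hx5, hq5, mul_one] at e5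
      obtain rfl : x = x' := Subtype.ext e5
      have hij := pow_injOn_Iio_orderOf (x := (⟨q, hqC⟩ : CP))
        (show (i : ℕ) < _ by rw [hq']; exact i.2) (show (j : ℕ) < _ by rw [hq']; exact j.2) (mul_left_cancel e)
      exact Prod.ext rfl (Fin.ext hij)
    have h2 : Nat.card {x : CP // x * x = 1} ≤ 2 := by
      have := Nat.card_le_card_of_injective Φ hΦ
      rw [Nat.card_prod, hC, Nat.card_eq_fintype_card (α := Fin 5), Fintype.card_fin] at this
      omega
    intro x hx hxx hx1
    by_contra hxu
    let g : Fin 3 → {x : CP // x * x = 1} :=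
      ![⟨1, one_mul 1⟩, ⟨⟨u, huC⟩, Subtype.ext huu⟩, ⟨⟨x, hx⟩, Subtype.ext hxx⟩]
    have hginj : Function.Injective g := by
      intro i j e
      fin_cases i <;> fin_cases j <;> simp [g, Subtype.ext_iff] at e ⊢ <;>
        first
          | exact absurd e (ne_one_of_orderOf hu)
          | exact absurd e.symm (ne_one_of_orderOf hu)
          | exact absurd e hx1
          | exact absurd e.symm hx1
          | exact absurd e hxu
          | exact absurd e.symm hxu
    have := Nat.card_le_card_of_injective g hginj
    rw [Nat.card_eq_fintype_card, Fintype.card_fin] at this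
    omega
  -- `u` is central in `N`
  set H := centralizer ({u} : Set G) with hHdef
  have hNH : N ≤ H := by
    intro n hn'
    refine mem_centralizer_singleton_iff.mpr (mul_inv_eq_iff_eq_mul.mp (huniq _ ?_ ?_ ?_))
    · refine mem_centralizer_iff.mpr fun a ha => ?_
      have ha' : n⁻¹ * a * n ∈ ((P : Subgroup G) : Set G) := by
        have := (mem_normalizer_iff.mp (inv_mem hn') a).mp ha
        rwa [inv_inv] at this
      calc a * (n * u * n⁻¹) = n * ((n⁻¹ * a * n) * u) * n⁻¹ := by group
        _ = n * (u * (n⁻¹ * a * n)) * n⁻¹ := by rw [mem_centralizer_iff.mp huC _ ha']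
        _ = n * u * n⁻¹ * a := by group
    · rw [show n * u * n⁻¹ * (n * u * n⁻¹) = n * (u * u) * n⁻¹ by group, huu]; group
    · intro e'
      rw [mul_inv_eq_one, mul_eq_left] at e'
      exact ne_one_of_orderOf hu e'
  have hPH : (P : Subgroup G) ≤ H := le_normalizer.trans hNH
  obtain ⟨k, hk5, hk, hk216⟩ := sylow_count P hPH
  rw [hn] at hk216
  rw [inf_eq_left.mpr hNH, hN20] at hk
  have hHidx : H.index * Nat.card H = 4320 := by rw [index_mul_card, h]
  rw [← hk] at hHidx
  have hHne : H ≠ ⊤ := centralizer_ne_top hG (ne_one_of_orderOf hu)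
  have hkc : k = 1 ∨ k = 6 := by
    have hd : k ∣ 216 := ⟨H.index, Nat.eq_of_mul_eq_mul_right (show 0 < 20 by norm_num) (by
      rw [show 216 * 20 = H.index * (k * 20) from hHidx.symm]; ring)⟩
    have hmem : k ∈ (Nat.divisors 216).filter (fun d => d % 5 = 1) :=
      Finset.mem_filter.mpr ⟨Nat.mem_divisors.mpr ⟨hd, by norm_num⟩, hk5⟩
    rw [show (Nat.divisors 216).filter (fun d => d % 5 = 1) = {1, 6, 36, 216} by decide +kernel] at hmem
    simp only [Finset.mem_insert, Finset.mem_singleton] at hmem
    rcases hmem with rfl | rfl | rfl | rfl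
    · exact Or.inl rfl
    · exact Or.inr rfl
    · exfalso
      have hidx : H.index = 6 := by omega
      have := two_mul_card_dvd_factorial_index hG hHne
      rw [hidx, h, show Nat.factorial 6 = 720 by decide] at this
      norm_num at this
    · exfalso
      have hidx : H.index = 1 := by omega
      exact hHne (index_eq_one.mp hidx)
  have := Fintype.ofFinite G
  rcases hkc with rfl | rfl
  · -- `|C(u)| = 20`
    obtain ⟨T⟩ := (inferInstance : Nonempty (Sylow 2 G))
    have hT : Nat.card ↥(T : Subgroup G) = 32 := by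
      simpa using card_sylow_eq (p := 2) (a := 5) (m := 135) (by rw [h]; norm_num) (by norm_num) T
    have hidx : (T : Subgroup G).index = 135 := by
      have := (T : Subgroup G).index_mul_card
      rw [hT, h] at this
      omega
    have hcard : Nat.card H = 20 := by omega
    have hconjc : ∀ x, IsConj u x → Nat.card ↥(centralizer ({x} : Set G)) = 20 := by
      intro x hx
      have h1 := card_isConj_mul_card_centralizer x
      have h2 := card_isConj_mul_card_centralizer u
      have hsame : Nat.card {y // IsConj x y} = Nat.card {y // IsConj u y} :=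
        Nat.card_congr (Equiv.subtypeEquivRight fun y => ⟨hx.trans, hx.symm.trans⟩)
      rw [hsame] at h1
      have hpos : 0 < Nat.card {y // IsConj u y} := Nat.card_pos_iff.mpr ⟨⟨⟨u, IsConj.refl u⟩⟩, inferInstance⟩
      rw [← hcard]
      exact Nat.eq_of_mul_eq_mul_left hpos (h1.trans h2.symm)
    have h1 := fix_mul_card (T : Subgroup G) u
    rw [← hHdef, hcard, hT] at h1
    have h2 : 4 ∣ Nat.card (G ⧸ (T : Subgroup G)) - Nat.card (fixedBy (G ⧸ (T : Subgroup G)) u) :=
      four_dvd_moved hG (hu ▸ pow_orderOf_eq_one u)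
    rw [← index_eq_card, hidx] at h2
    have hle : Nat.card (fixedBy (G ⧸ (T : Subgroup G)) u) ≤ 135 := by
      rw [← hidx, index_eq_card]
      exact Nat.card_le_card_of_injective _ Subtype.val_injective
    have hX24 : 24 ≤ Nat.card {x : G // IsConj u x ∧ x ∈ (T : Subgroup G)} := by omega
    have := Fintype.ofFinite (T : Subgroup G)
    set D := commutator ↥(T : Subgroup G) with hD
    set X := Finset.univ.filter (fun x : (T : Subgroup G) => IsConj u (x : G)) with hX
    have hXc : 24 ≤ X.card := by
      refine hX24.trans (le_of_eq ?_)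
      rw [hX, ← Fintype.card_subtype, ← Nat.card_eq_fintype_card]
      exact Nat.card_congr ⟨fun x => ⟨⟨x.1, x.2.2⟩, x.2.1⟩, fun x => ⟨x.1.1, x.2, x.1.2⟩,
        fun x => rfl, fun x => rfl⟩
    -- centralisers in `T`
    have hCT : ∀ x ∈ X, Nat.card ↥(centralizer ({x} : Set ↥(T : Subgroup G))) ≤ 4 := by
      intro x hx
      have hd1 : Nat.card ↥(centralizer ({x} : Set ↥(T : Subgroup G))) ∣ 32 := hT ▸ card_subgroup_dvd_card _
      have hle' : (centralizer ({x} : Set ↥(T : Subgroup G))).map (T : Subgroup G).subtype ≤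
          centralizer ({(x : G)} : Set G) := by
        rintro _ ⟨y, hy, rfl⟩
        exact mem_centralizer_singleton_iff.mpr (congrArg Subtype.val (mem_centralizer_singleton_iff.mp hy))
      have hd2 := Subgroup.card_dvd_of_le hle'
      rw [hconjc _ (Finset.mem_filter.mp hx).2,
        Nat.card_congr (equivMapOfInjective _ _ (T : Subgroup G).subtype_injective).toEquiv.symm] at hd2
      have hd := Nat.dvd_gcd hd1 hd2
      rw [show Nat.gcd 32 20 = 4 by decide] at hd
      exact Nat.le_of_dvd (by norm_num) hd
    obtain ⟨x₀, hx₀⟩ := Finset.card_pos.mp (show 0 < X.card by omega)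
    have hnc : ¬ IsMulCommutative ↥(T : Subgroup G) := fun hc => by
      have := hCT x₀ hx₀
      rw [show centralizer ({x₀} : Set ↥(T : Subgroup G)) = ⊤ from eq_top_iff.mpr fun y _ =>
        mem_centralizer_singleton_iff.mpr (hc.is_comm.comm y x₀), Subgroup.card_top, hT] at this
      omega
    have hDidx := CfsgLib.Spectrum.four_le_index_commutator T.isPGroup' hnc
    have hDmul := D.index_mul_card
    rw [hT] at hDmul
    -- a class fills a coset of the commutator subgroup
    have hclass : ∀ x ∈ X, 8 ≤ Nat.card {y // IsConj x y} ∧ ∀ y, IsConj x y → x⁻¹ * y ∈ D := by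
      intro x hx
      refine ⟨?_, ?_⟩
      · have := card_isConj_mul_card_centralizer x
        rw [hT] at this
        have := hCT x hx
        nlinarith
      · intro y hy
        obtain ⟨t, rfl⟩ := isConj_iff.mp hy
        rw [show x⁻¹ * (t * x * t⁻¹) = x⁻¹ * t * x⁻¹⁻¹ * t⁻¹ by group, ← commutatorElement_def]
        exact commutator_mem_commutator (mem_top _) (mem_top _)
    have hD8 : Nat.card D = 8 := by
      have h8 : 8 ≤ Nat.card D := by
        refine (hclass x₀ hx₀).1.trans (Nat.card_le_card_of_injective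
          (fun y => ⟨x₀⁻¹ * y.1, (hclass x₀ hx₀).2 y.1 y.2⟩) ?_)
        intro y y' e
        exact Subtype.ext (mul_left_cancel (congrArg Subtype.val e))
      have : 4 * Nat.card D ≤ 32 := by rw [← hDmul]; exact Nat.mul_le_mul_right _ hDidx
      omega
    have hcos : ∀ x ∈ X, ∀ d ∈ D, IsConj x (x * d) := by
      intro x hx d hd
      let f : {y // IsConj x y} → D := fun y => ⟨x⁻¹ * y.1, (hclass x hx).2 y.1 y.2⟩
      have hf : Function.Injective f := fun y y' e => Subtype.ext (mul_left_cancel (congrArg Subtype.val e))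
      have hb := (Nat.bijective_iff_injective_and_card f).mpr
        ⟨hf, le_antisymm (Nat.card_le_card_of_injective f hf) (hD8 ▸ (hclass x hx).1)⟩
      obtain ⟨⟨y, hy⟩, hyd⟩ := hb.2 ⟨d, hd⟩
      have e : x⁻¹ * y = d := congrArg Subtype.val hyd
      rwa [← e, mul_inv_cancel_left]
    have hXD : ∀ x ∈ X, x ∉ D := by
      intro x hx hxD
      have h' := hcos x hx x⁻¹ (inv_mem hxD)
      rw [mul_inv_cancel, isConj_one_left] at h'
      obtain ⟨c', hc'⟩ := isConj_iff.mp (Finset.mem_filter.mp hx).2
      rw [h', OneMemClass.coe_one, mul_inv_eq_one, mul_eq_left] at hc'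
      exact ne_one_of_orderOf hu hc'
    have hXeq : ∀ x, x ∉ D → x ∈ X := by
      have hsub : X ⊆ Finset.univ.filter (fun x => x ∉ D) := fun x hx =>
        Finset.mem_filter.mpr ⟨Finset.mem_univ _, hXD x hx⟩
      have hc : (Finset.univ.filter fun x : (T : Subgroup G) => x ∉ D).card = 24 := by
        rw [← Fintype.card_subtype, Fintype.card_subtype_compl, ← Nat.card_eq_fintype_card,
          ← Nat.card_eq_fintype_card, hT]
        show 32 - Nat.card D = 24
        rw [hD8]
      intro x hx
      rw [Finset.eq_of_subset_of_card_le hsub (by rw [hc]; exact hXc)]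
      exact Finset.mem_filter.mpr ⟨Finset.mem_univ _, hx⟩
    obtain ⟨y, hyD, hy⟩ : ∃ y, y ∉ D ∧ x₀⁻¹ * y ∉ D := by
      by_contra hcon
      push Not at hcon
      let f : ↥(T : Subgroup G) → D ⊕ D := fun y =>
        if hy : y ∈ D then Sum.inl ⟨y, hy⟩ else Sum.inr ⟨x₀⁻¹ * y, hcon y hy⟩
      have hf : Function.Injective f := by
        intro a b e
        by_cases ha : a ∈ D <;> by_cases hb : b ∈ D <;> simp only [f, dif_pos, dif_neg, ha, hb, not_false_iff] at e
        · exact congrArg Subtype.val (Sum.inl.inj e)
        · exact absurd e (by simp)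
        · exact absurd e (by simp)
        · exact mul_left_cancel (congrArg Subtype.val (Sum.inr.inj e))
      have := Nat.card_le_card_of_injective f hf
      rw [Nat.card_sum, hT, hD8] at this
      omega
    have hinv : ∀ x ∈ X, x * x = 1 := by
      intro x hx
      obtain ⟨c', hc'⟩ := isConj_iff.mp (Finset.mem_filter.mp hx).2
      apply Subtype.ext
      show (x : G) * x = 1
      rw [← hc', show c' * u * c'⁻¹ * (c' * u * c'⁻¹) = c' * (u * u) * c'⁻¹ by group, huu]
      group
    have hinvert : ∀ x, x ∉ D → ∀ d ∈ D, x * d * x⁻¹ = d⁻¹ := by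
      intro x hx d hd
      have h1 := hinv x (hXeq x hx)
      have hxd : x * d ∉ D := fun h' => hx (by
        have := mul_mem h' (inv_mem hd)
        rwa [mul_inv_cancel_right] at this)
      have h2 := hinv _ (hXeq _ hxd)
      rw [inv_eq_of_mul_eq_one_right h1, eq_inv_iff_mul_eq_one]
      rw [← h2]
      group
    have hxy : x₀ * y ∉ D := by
      rwa [inv_eq_of_mul_eq_one_right (hinv x₀ hx₀)] at hy
    have hle8 : D ≤ centralizer ({x₀ * y} : Set ↥(T : Subgroup G)) := by
      intro d hd
      refine mem_centralizer_singleton_iff.mpr (mul_inv_eq_iff_eq_mul.mp ?_).symm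
      calc x₀ * y * d * (x₀ * y)⁻¹ = x₀ * (y * d * y⁻¹) * x₀⁻¹ := by group
        _ = d := by rw [hinvert y hyD d hd, ← conj_inv, hinvert x₀ (hXD x₀ hx₀) d hd, inv_inv]
    have := (Subgroup.card_le_of_le hle8).trans (hCT _ (hXeq _ hxy))
    omega
  · -- `|C(u)| = 120`
    have hH : Nat.card H = 120 := by omega
    have hidx : H.index = 36 := by omega
    have hfq := card_fixedBy_sylow_eq_one P hzq hNH
    have hfu : Nat.card (fixedBy (G ⧸ H) u) = 16 := by
      have h1 : Nat.card (fixedBy (G ⧸ H) u) % 5 = 1 :=
        card_fixedBy_modEq_one (isPGroup_zpowers hq) (mem_centralizer_iff.mp huC q hqP).symm hfq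
      have h2 : 4 ∣ Nat.card (G ⧸ H) - Nat.card (fixedBy (G ⧸ H) u) :=
        four_dvd_moved hG (hu ▸ pow_orderOf_eq_one u)
      rw [← index_eq_card, hidx] at h2
      have h3 := fix_lt_index hHne (ne_one_of_orderOf hu)
      omega
    set X := Finset.univ.filter (fun x : G => IsConj u x) with hX
    have hXc : X.card = 36 := by
      rw [hX, ← Fintype.card_subtype, ← Nat.card_eq_fintype_card]
      have := card_isConj_mul_card_centralizer u
      rw [← hHdef, hH, h] at this
      omega
    have hinv : ∀ x ∈ X, x * x = 1 ∧ x ≠ 1 := by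
      intro x hx
      obtain ⟨c', rfl⟩ := isConj_iff.mp (Finset.mem_filter.mp hx).2
      refine ⟨?_, fun e' => ?_⟩
      · rw [show c' * u * c'⁻¹ * (c' * u * c'⁻¹) = c' * (u * u) * c'⁻¹ by group, huu]; group
      · rw [mul_inv_eq_one, mul_eq_left] at e'
        exact ne_one_of_orderOf hu e'
    have hXconj : ∀ g : G, ∀ x ∈ X, g * x * g⁻¹ ∈ X := fun g x hx =>
      Finset.mem_filter.mpr ⟨Finset.mem_univ _, (Finset.mem_filter.mp hx).2.trans (isConj_iff.mpr ⟨g, rfl⟩)⟩
    have huX : u ∈ X := Finset.mem_filter.mpr ⟨Finset.mem_univ _, IsConj.refl u⟩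
    have huH : u ∈ H := mem_centralizer_singleton_iff.mpr rfl
    have hXH : (X.filter fun x => x ∈ H).card = 16 := by
      have h1 := fix_mul_card H u
      rw [hfu, ← hHdef, hH] at h1
      rw [hX, Finset.filter_filter, ← Fintype.card_subtype, ← Nat.card_eq_fintype_card]
      omega
    set A := (X.filter fun x => x ∈ H).erase u with hA
    set B := X.filter (fun x => x ∉ H) with hB
    have hAc : A.card = 15 := by
      rw [hA, Finset.card_erase_of_mem (Finset.mem_filter.mpr ⟨huX, huH⟩), hXH]
    have hBc : B.card = 20 := by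
      have := Finset.card_filter_add_card_filter_not (s := X) (fun x => x ∈ H)
      rw [← hB] at this
      omega
    -- nothing of `CP` but `u` in the class
    have hqconj : ∀ r ∈ H, orderOf r = 5 → ∃ g ∈ H, g * r * g⁻¹ ∈ (P : Subgroup G) ∧ g * r * g⁻¹ ≠ 1 := by
      intro r hrH hr
      have hr' : orderOf (⟨r, hrH⟩ : H) = 5 := by rw [← Subgroup.orderOf_coe]; exact hr
      obtain ⟨R, hR⟩ := (isPGroup_zpowers hr').exists_le_sylow
      obtain ⟨g, hg⟩ := MulAction.exists_smul_eq H R (P.subtype hPH)
      refine ⟨g, g.2, ?_, fun e' => ?_⟩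
      · have hmem : g * (⟨r, hrH⟩ : H) * g⁻¹ ∈ P.subtype hPH := hg ▸ ⟨_, hR (mem_zpowers _), rfl⟩
        exact hmem
      · rw [mul_inv_eq_one, mul_eq_left] at e'
        exact ne_one_of_orderOf hr e'
    have hQ : ∀ y ∈ X, ∀ r ∈ H, orderOf r = 5 → Commute y r → y = u := by
      intro y hy r hrH hr hc
      obtain ⟨g, hgH, hgP, hg1⟩ := hqconj r hrH hr
      have hgen := zpowers_eq_sylow P hP5 hgP hg1
      have hgy : g * y * g⁻¹ ∈ CP := by
        refine mem_centralizer_iff.mpr fun a ha => ?_
        have ha' : a ∈ zpowers (g * r * g⁻¹) := hgen.symm ▸ ha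
        obtain ⟨i, rfl⟩ := mem_zpowers_iff.mp ha'
        have hc' : Commute (g * y * g⁻¹) (g * r * g⁻¹) := hc.map (MulAut.conj g).toMonoidHom
        exact (hc'.zpow_right i).symm.eq
      have hgy' := huniq _ hgy (hinv _ (hXconj g y hy)).1 (hinv _ (hXconj g y hy)).2
      calc y = g⁻¹ * (g * y * g⁻¹) * g := by group
        _ = g⁻¹ * (u * g) := by rw [hgy', mul_assoc]
        _ = u := by rw [← mem_centralizer_singleton_iff.mp hgH, inv_mul_cancel_left]
    -- a Sylow `3`-subgroup of `H`
    have hR3 : ∀ r : H, orderOf r = 3 → ∀ T : Subgroup H, T ≤ normalizer (zpowers r : Set H) →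
        12 ∣ Nat.card T → Nat.card ↥(normalizer (zpowers r : Set H)) = 12 := by
      intro r hr T hT h12
      let R : Sylow 3 H := (isPGroup_zpowers hr).toSylow (by
        have := (zpowers r).index_mul_card
        rw [Nat.card_zpowers, hr, hH] at this
        rw [show (zpowers r).index = 40 by omega]
        norm_num)
      have hmul := card_sylow_mul_card_normalizer R
      rw [hH] at hmul
      have hmem := card_sylow_mem (G := H) (p := 3) (a := 1) (m := 40) (by rw [hH]; norm_num) (by norm_num)
      rw [show (Nat.divisors 40).filter (fun d => d % 3 = 1) = {1, 4, 10, 40} by decide +kernel] at hmem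
      simp only [Finset.mem_insert, Finset.mem_singleton] at hmem
      have hdvd : 12 ∣ Nat.card ↥(normalizer ((R : Subgroup H) : Set H)) := h12.trans (Subgroup.card_dvd_of_le hT)
      rcases hmem with e' | e' | e' | e'
      · -- `q` centralises `r`
        exfalso
        have hfull : normalizer (zpowers r : Set H) = ⊤ := eq_top_of_card_eq _ (by
          show Nat.card ↥(normalizer ((R : Subgroup H) : Set H)) = Nat.card H
          rw [e', one_mul] at hmul
          rw [hmul, hH])
        set q' : H := ⟨q, hPH hqP⟩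
        have hm : q' * r * q'⁻¹ ∈ zpowers r :=
          (mem_normalizer_iff.mp (hfull ▸ mem_top q' : q' ∈ normalizer (zpowers r : Set H)) r).mp (mem_zpowers r)
        have h2 : q' ^ 2 * r * (q' ^ 2)⁻¹ = r := by
          rw [mem_zpowers_iff_mem_range_orderOf, hr, Finset.mem_image] at hm
          obtain ⟨i, hi, hiq⟩ := hm
          rw [Finset.mem_range] at hi
          rw [show q' ^ 2 * r * (q' ^ 2)⁻¹ = q' * (q' * r * q'⁻¹) * q'⁻¹ by rw [pow_two]; group, ← hiq,
            ← conj_pow, ← hiq, ← pow_mul]
          interval_cases i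
          · rw [pow_zero, eq_comm, mul_inv_eq_one, mul_eq_left] at hiq
            exact absurd hiq (ne_one_of_orderOf hr)
          · rw [mul_one, pow_one]
          · rw [show 2 * 2 = orderOf r + 1 by rw [hr], pow_succ, pow_orderOf_eq_one, one_mul]
        have hq5 : orderOf q' = 5 := by rw [← Subgroup.orderOf_coe]; exact hq
        have hcq : Commute q' r := by
          have h6 := (show Commute (q' ^ 2) r from mul_inv_eq_iff_eq_mul.mp h2).pow_left 3
          rwa [← pow_mul, show 2 * 3 = orderOf q' + 1 by rw [hq5], pow_succ, pow_orderOf_eq_one, one_mul] at h6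
        have hrC : (r : G) ∈ CP := by
          refine mem_centralizer_iff.mpr fun a ha => ?_
          have ha' : a ∈ zpowers q := hzq.symm ▸ ha
          obtain ⟨i, rfl⟩ := mem_zpowers_iff.mp ha'
          exact ((show Commute q (r : G) from congrArg Subtype.val hcq.eq).zpow_left i).eq
        have h3 := Subgroup.orderOf_dvd_natCard _ hrC
        rw [Subgroup.orderOf_coe, hr, hC] at h3
        norm_num at h3
      · exfalso
        rw [e'] at hmul
        omega
      · show Nat.card ↥(normalizer ((R : Subgroup H) : Set H)) = 12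
        rw [e'] at hmul
        omega
      · exfalso
        rw [e'] at hmul
        omega
    have hAprop : ∀ y ∈ A, Nat.card ↥((centralizer ({y} : Set G)).subgroupOf H) = 8 := by
      intro y hy
      obtain ⟨hyu, hyXH⟩ := Finset.mem_erase.mp hy
      obtain ⟨hyX, hyH⟩ := Finset.mem_filter.mp hyXH
      set K := (centralizer ({y} : Set G)).subgroupOf H
      have hidxK : K.index ≤ 15 := hAc ▸ index_centralizer_subgroupOf_le H y A (fun g hg => by
        refine Finset.mem_erase.mpr ⟨fun e' => hyu ?_, Finset.mem_filter.mpr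
          ⟨hXconj g y hyX, mul_mem (mul_mem hg hyH) (inv_mem hg)⟩⟩
        calc y = g⁻¹ * (g * y * g⁻¹) * g := by group
          _ = g⁻¹ * (u * g) := by rw [e', mul_assoc]
          _ = u := by rw [← mem_centralizer_singleton_iff.mp hg, inv_mul_cancel_left])
      have hmul := K.index_mul_card
      rw [hH] at hmul
      have hK5 : ¬ 5 ∣ Nat.card K := by
        intro h5
        obtain ⟨r, hrK, hr⟩ := exists_mem_orderOf (p := 5) K h5
        exact hyu (hQ y hyX r r.2 (by rw [Subgroup.orderOf_coe, hr])
          (mem_centralizer_singleton_iff.mp (mem_subgroupOf.mp hrK)).symm)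
      have hK3 : ¬ 3 ∣ Nat.card K := by
        intro h3
        obtain ⟨r, hrK, hr⟩ := exists_mem_orderOf (p := 3) K h3
        have hyr : Commute (r : G) y := mem_centralizer_singleton_iff.mp (mem_subgroupOf.mp hrK)
        set u' : H := ⟨u, huH⟩
        set y' : H := ⟨y, hyH⟩
        have hur : Commute u' r := Subtype.ext (mem_centralizer_singleton_iff.mp r.2).symm
        have hy'r : Commute y' r := Subtype.ext hyr.eq.symm
        have huy : Commute u' y' := Subtype.ext (mem_centralizer_singleton_iff.mp hyH).symm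
        have hu' : orderOf u' = 2 := by rw [← Subgroup.orderOf_coe]; exact hu
        have hy' : orderOf y' = 2 := by
          rw [← Subgroup.orderOf_coe]
          exact orderOf_eq_prime (by rw [pow_two]; exact (hinv y hyX).1) (hinv y hyX).2
        set C' := centralizer (zpowers r : Set H) with hC'
        have hmemC : ∀ z : H, Commute z r → z ∈ C' := fun z hz => mem_centralizer_iff.mpr fun a ha => by
          obtain ⟨i, rfl⟩ := mem_zpowers_iff.mp ha
          exact (hz.zpow_right i).symm.eq
        have h4 : 4 ∣ Nat.card C' := by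
          have hp := IsPGroup.to_sup_of_normal_right' (isPGroup_zpowers hu') (isPGroup_zpowers hy')
            (zpowers_le.mpr (mem_normalizer_fintype fun a ha => by
              obtain ⟨i, rfl⟩ := mem_zpowers_iff.mp ha
              rw [mul_inv_eq_iff_eq_mul.mpr (huy.zpow_right i).eq]
              exact zpow_mem (mem_zpowers _) i))
          obtain ⟨m, hm⟩ := IsPGroup.iff_card.mp hp
          have hm2 : 2 ≤ m := by
            by_contra hlt
            have hc : Nat.card ↥(zpowers u' ⊔ zpowers y' : Subgroup H) ≤ Nat.card ↥(zpowers y') := by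
              rw [hm, Nat.card_zpowers, hy']
              calc 2 ^ m ≤ 2 ^ 1 := Nat.pow_le_pow_right (by norm_num) (by omega)
                _ = 2 := by norm_num
            have he := eq_of_le_of_card_ge (le_sup_right : zpowers y' ≤ zpowers u' ⊔ zpowers y') hc
            have hm' : u' ∈ zpowers y' := he.ge (mem_sup_left (mem_zpowers u'))
            have hgen : zpowers u' = zpowers y' :=
              eq_of_le_of_card_ge (zpowers_le.mpr hm') (by rw [Nat.card_zpowers, Nat.card_zpowers, hu', hy'])
            have hy'' : y' ∈ zpowers u' := hgen ▸ mem_zpowers y'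
            rw [mem_zpowers_iff_mem_range_orderOf, hu', Finset.mem_image] at hy''
            obtain ⟨i, hi, hi'⟩ := hy''
            rw [Finset.mem_range] at hi
            interval_cases i
            · exact ne_one_of_orderOf hy' (hi'.symm.trans (pow_zero u'))
            · rw [pow_one] at hi'
              exact hyu (congrArg Subtype.val hi').symm
          have := Subgroup.card_dvd_of_le (sup_le (zpowers_le.mpr (hmemC _ hur)) (zpowers_le.mpr (hmemC _ hy'r)))
          rw [hm] at this
          exact (pow_dvd_pow 2 hm2).trans this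
        have h12 : 12 ∣ Nat.card C' := Nat.Coprime.mul_dvd_of_dvd_of_dvd (show Nat.Coprime 3 4 by norm_num)
          (hr ▸ Subgroup.orderOf_dvd_natCard _ (hmemC r (Commute.refl r))) h4
        have hNC := hR3 r hr C' (centralizer_le_normalizer _) h12
        let R : Sylow 3 H := (isPGroup_zpowers hr).toSylow (by
          have := (zpowers r).index_mul_card
          rw [Nat.card_zpowers, hr, hH] at this
          rw [show (zpowers r).index = 40 by omega]
          norm_num)
        have hle : normalizer ((R : Subgroup H) : Set H) ≤ centralizer ((R : Subgroup H) : Set H) :=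
          (eq_of_le_of_card_ge (centralizer_le_normalizer _)
            (hNC.le.trans (Nat.le_of_dvd Nat.card_pos h12))).ge
        have hcompl := MonoidHom.ker_transferSylow_isComplement' R hle
        set L := (MonoidHom.transferSylow R hle).ker
        have hLc : Nat.card L * 3 = 120 := by
          have := hcompl.card_mul
          rw [hH, show Nat.card ↥(R : Subgroup H) = 3 from (Nat.card_zpowers r).trans hr] at this
          exact this
        have hLidx : L.index = 3 := by
          have := L.index_mul_card
          rw [hH] at this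
          nlinarith
        set q' : H := ⟨q, hPH hqP⟩
        have hq5 : orderOf q' = 5 := by rw [← Subgroup.orderOf_coe]; exact hq
        have hqL : q' ∈ L := by
          have h3' : q' ^ 3 ∈ L := hLidx ▸ pow_index_mem L q'
          have e' : q' = (q' ^ 3) ^ 2 := by
            rw [← pow_mul, show 3 * 2 = orderOf q' + 1 by rw [hq5], pow_succ, pow_orderOf_eq_one, one_mul]
          rw [e']; exact pow_mem h3' 2
        set L' := L.map H.subtype
        have hPL : (P : Subgroup G) ≤ L' := hzq ▸ zpowers_le.mpr ⟨q', hqL, rfl⟩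
        obtain ⟨k', hk'5, hk', -⟩ := sylow_count P hPL
        rw [show Nat.card L' = 40 by
          rw [Nat.card_congr (equivMapOfInjective _ _ H.subtype_injective).toEquiv.symm]; omega] at hk'
        have hd := Subgroup.card_dvd_of_le (inf_le_left : N ⊓ L' ≤ N)
        rw [hN20] at hd
        have h5 : 5 ∣ Nat.card ↥(N ⊓ L' : Subgroup G) :=
          hP5 ▸ Subgroup.card_dvd_of_le (le_inf le_normalizer hPL)
        obtain ⟨l, hl⟩ := h5
        rw [hl] at hk' hd
        have := Nat.le_of_dvd (by norm_num) hd
        have hl4 : l ≤ 4 := by omega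
        interval_cases l <;> omega
      have hd : Nat.card K ∣ 120 := hH ▸ card_subgroup_dvd_card K
      have hcop : Nat.Coprime (Nat.card K) 15 := by
        rw [show 15 = 3 * 5 from rfl, Nat.coprime_mul_iff_right]
        exact ⟨((Nat.prime_three).coprime_iff_not_dvd.mpr hK3).symm,
          ((show Nat.Prime 5 by norm_num).coprime_iff_not_dvd.mpr hK5).symm⟩
      rw [show 120 = 8 * 15 from rfl] at hd
      have := Nat.le_of_dvd (by norm_num) (hcop.dvd_of_dvd_mul_right hd)
      nlinarith
    have hlow : ∀ y ∈ A, 9 ≤ (B.filter fun b => Commute y b).card := by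
      intro y hy
      obtain ⟨hyu, hyXH⟩ := Finset.mem_erase.mp hy
      obtain ⟨hyX, hyH⟩ := Finset.mem_filter.mp hyXH
      obtain ⟨g, hg⟩ := isConj_iff.mp (Finset.mem_filter.mp hyX).2
      have h16 : (X.filter fun x => Commute y x).card = 16 := by
        rw [← hXH]
        refine Finset.card_bij (fun x _ => g⁻¹ * x * g) ?_ (fun a _ b _ e' => by simpa using e') ?_
        · intro x hx
          obtain ⟨hxX, hxy⟩ := Finset.mem_filter.mp hx
          refine Finset.mem_filter.mpr ⟨?_, mem_centralizer_singleton_iff.mpr ?_⟩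
          · have := hXconj g⁻¹ x hxX
            rwa [inv_inv] at this
          · rw [← hg] at hxy
            calc g⁻¹ * x * g * u = g⁻¹ * (x * (g * u * g⁻¹)) * g := by group
              _ = g⁻¹ * (g * u * g⁻¹ * x) * g := by rw [hxy.eq]
              _ = u * (g⁻¹ * x * g) := by group
        · intro z hz
          obtain ⟨hzX, hzH⟩ := Finset.mem_filter.mp hz
          refine ⟨g * z * g⁻¹, Finset.mem_filter.mpr ⟨hXconj g z hzX, ?_⟩, by group⟩
          rw [← hg]
          exact ((show Commute u z from (mem_centralizer_singleton_iff.mp hzH).symm).map (MulAut.conj g).toMonoidHom)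
      have hA6 : (A.filter fun x => Commute y x).card ≤ 6 := by
        set K := (centralizer ({y} : Set G)).subgroupOf H with hK
        have hK8 := hAprop y hy
        rw [← hK] at hK8
        have := Fintype.ofFinite K
        let ub : K := ⟨⟨u, huH⟩, mem_subgroupOf.mpr
          (mem_centralizer_singleton_iff.mpr (mem_centralizer_singleton_iff.mp hyH).symm)⟩
        let φ : {x // x ∈ A.filter fun x => Commute y x} → {z : K // z ≠ 1 ∧ z ≠ ub} := fun x =>
          ⟨⟨⟨x.1, (Finset.mem_filter.mp (Finset.mem_erase.mp (Finset.mem_filter.mp x.2).1).2).2⟩,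
            mem_subgroupOf.mpr (mem_centralizer_singleton_iff.mpr (Finset.mem_filter.mp x.2).2.eq.symm)⟩,
            fun e' => (hinv x.1 (Finset.mem_filter.mp (Finset.mem_erase.mp (Finset.mem_filter.mp x.2).1).2).1).2
              (congrArg (fun z : K => ((z : H) : G)) e'),
            fun e' => (Finset.mem_erase.mp (Finset.mem_filter.mp x.2).1).1
              (congrArg (fun z : K => ((z : H) : G)) e')⟩
        have := Nat.card_le_card_of_injective φ fun a b e' =>
          Subtype.ext (congrArg (fun z => (((z.1 : K) : H) : G)) e')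
        rw [Nat.card_eq_fintype_card, Fintype.card_coe, Nat.card_eq_fintype_card, Fintype.card_subtype,
          show (Finset.univ.filter fun z : K => z ≠ 1 ∧ z ≠ ub) = (Finset.univ.erase 1).erase ub from by
            ext z; simp [and_comm], Finset.card_erase_of_mem, Finset.card_erase_of_mem (Finset.mem_univ _),
          Finset.card_univ, ← Nat.card_eq_fintype_card, hK8] at this
        · omega
        · refine Finset.mem_erase.mpr ⟨fun e' => ?_, Finset.mem_univ _⟩
          exact ne_one_of_orderOf hu (congrArg (fun z : K => ((z : H) : G)) e')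
      have hsub : X.filter (fun x => Commute y x) ⊆
          insert u (A.filter (fun x => Commute y x) ∪ B.filter (fun x => Commute y x)) := by
        intro x hx
        obtain ⟨hxX, hxy⟩ := Finset.mem_filter.mp hx
        rcases eq_or_ne x u with rfl | hxu
        · exact Finset.mem_insert_self _ _
        refine Finset.mem_insert_of_mem (Finset.mem_union.mpr ?_)
        by_cases hxH : x ∈ H
        · exact Or.inl (Finset.mem_filter.mpr
            ⟨Finset.mem_erase.mpr ⟨hxu, Finset.mem_filter.mpr ⟨hxX, hxH⟩⟩, hxy⟩)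
        · exact Or.inr (Finset.mem_filter.mpr ⟨Finset.mem_filter.mpr ⟨hxX, hxH⟩, hxy⟩)
      have := (Finset.card_le_card hsub).trans ((Finset.card_insert_le _ _).trans
        (Nat.add_le_add_right (Finset.card_union_le _ _) 1))
      omega
    have hhigh : ∀ b ∈ B, (A.filter fun y => Commute y b).card ≤ 5 := by
      intro b hb
      obtain ⟨hbX, hbH⟩ := Finset.mem_filter.mp hb
      set K := (centralizer ({b} : Set G)).subgroupOf H with hK
      have hidxK : K.index ≤ 20 := hBc ▸ index_centralizer_subgroupOf_le H b B (fun g hg => by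
        refine Finset.mem_filter.mpr ⟨hXconj g b hbX, fun h' => hbH ?_⟩
        have := mul_mem (mul_mem (inv_mem hg) h') hg
        rwa [show g⁻¹ * (g * b * g⁻¹) * g = b by group] at this)
      have hmul := K.index_mul_card
      rw [hH] at hmul
      have huK : (⟨u, huH⟩ : H) ∉ K := fun h' => hbH (mem_centralizer_singleton_iff.mpr
        (mem_centralizer_singleton_iff.mp (mem_subgroupOf.mp h')).symm)
      have hK5 : ¬ 5 ∣ Nat.card K := by
        intro h5
        obtain ⟨r, hrK, hr⟩ := exists_mem_orderOf (p := 5) K h5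
        exact hbH (hQ b hbX r r.2 (by rw [Subgroup.orderOf_coe, hr])
          (mem_centralizer_singleton_iff.mp (mem_subgroupOf.mp hrK)).symm ▸ huH)
      have hK8 : ¬ 8 ∣ Nat.card K := by
        intro h8
        obtain ⟨S, hS⟩ := Sylow.exists_subgroup_card_pow_prime (G := K) 2 (n := 3) h8
        set S' := S.map K.subtype with hS'
        have hS'c : Nat.card S' = 8 := by
          rw [hS', Nat.card_congr (equivMapOfInjective _ _ K.subtype_injective).toEquiv.symm, hS]; norm_num
        set u' : H := ⟨u, huH⟩
        have hu' : orderOf u' = 2 := by rw [← Subgroup.orderOf_coe]; exact hu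
        have hp := IsPGroup.to_sup_of_normal_right' (isPGroup_zpowers hu')
          (IsPGroup.of_card (n := 3) (hS'c.trans rfl) : IsPGroup 2 S')
          (zpowers_le.mpr (mem_normalizer_fintype fun a ha => by
            have hc : Commute u' a := Subtype.ext (mem_centralizer_singleton_iff.mp a.2).symm
            rw [mul_inv_eq_iff_eq_mul.mpr hc.eq]
            exact ha))
        obtain ⟨m, hm⟩ := IsPGroup.iff_card.mp hp
        have hd := card_subgroup_dvd_card (zpowers u' ⊔ S' : Subgroup H)
        rw [hm, hH] at hd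
        have hm3 : m ≤ 3 := by
          by_contra hlt
          have h16 : 2 ^ 4 ∣ 120 := (pow_dvd_pow 2 (by omega)).trans hd
          norm_num at h16
        have hc : Nat.card ↥(zpowers u' ⊔ S' : Subgroup H) ≤ Nat.card S' := by
          rw [hm, hS'c]
          calc 2 ^ m ≤ 2 ^ 3 := Nat.pow_le_pow_right (by norm_num) hm3
            _ = 8 := by norm_num
        have he := eq_of_le_of_card_ge (le_sup_right : S' ≤ zpowers u' ⊔ S') hc
        exact huK (map_subtype_le _ (he.ge (mem_sup_left (mem_zpowers u'))))
      have hKc : Nat.card K = 6 ∨ Nat.card K = 12 := by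
        have hd : Nat.card K ∣ 120 := hH ▸ card_subgroup_dvd_card K
        have hge : 6 ≤ Nat.card K := by nlinarith
        have hmem : Nat.card K ∈ (Nat.divisors 120).filter (fun d => ¬ 5 ∣ d ∧ ¬ 8 ∣ d ∧ 6 ≤ d) :=
          Finset.mem_filter.mpr ⟨Nat.mem_divisors.mpr ⟨hd, by norm_num⟩, hK5, hK8, hge⟩
        rw [show (Nat.divisors 120).filter (fun d => ¬ 5 ∣ d ∧ ¬ 8 ∣ d ∧ 6 ≤ d) = {6, 12} by decide +kernel] at hmem
        simpa using hmem
      have := Fintype.ofFinite K
      let φ : {y // y ∈ A.filter fun y => Commute y b} → {z : K // z * z = 1 ∧ z ≠ 1} := fun y =>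
        ⟨⟨⟨y.1, (Finset.mem_filter.mp (Finset.mem_erase.mp (Finset.mem_filter.mp y.2).1).2).2⟩,
          mem_subgroupOf.mpr (mem_centralizer_singleton_iff.mpr (Finset.mem_filter.mp y.2).2.eq)⟩,
          Subtype.ext (Subtype.ext
            (hinv y.1 (Finset.mem_filter.mp (Finset.mem_erase.mp (Finset.mem_filter.mp y.2).1).2).1).1),
          fun e' => (hinv y.1 (Finset.mem_filter.mp (Finset.mem_erase.mp (Finset.mem_filter.mp y.2).1).2).1).2
            (congrArg (fun z : K => ((z : H) : G)) e')⟩
      have hle := Nat.card_le_card_of_injective φ fun a a' e' =>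
        Subtype.ext (congrArg (fun z => (((z.1 : K) : H) : G)) e')
      rw [Nat.card_eq_fintype_card, Fintype.card_coe] at hle
      rcases hKc with hK6 | hK12
      · refine hle.trans ?_
        let emb : {z : K // z * z = 1 ∧ z ≠ 1} → {z : K // z ≠ 1} := fun z => ⟨z.1, z.2.2⟩
        refine (Nat.card_le_card_of_injective emb fun a b e' => Subtype.ext
          (congrArg (fun z => z.1) e' :)).trans ?_
        rw [Nat.card_eq_fintype_card, Fintype.card_subtype_compl, Fintype.card_subtype_eq,
          ← Nat.card_eq_fintype_card, hK6]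
      · refine hle.trans ((card_involutions_le_of_four_sylow hK12 ?_).trans (by norm_num))
        have hmem := card_sylow_mem (G := K) (p := 3) (a := 1) (m := 4) (by rw [hK12]; norm_num) (by norm_num)
        rw [show (Nat.divisors 4).filter (fun d => d % 3 = 1) = {1, 4} by decide] at hmem
        simp only [Finset.mem_insert, Finset.mem_singleton] at hmem
        refine (hmem.resolve_left fun h1 => ?_).ge
        obtain ⟨r, hr⟩ := exists_prime_orderOf_dvd_card' (G := K) 3 (by rw [hK12]; norm_num)
        obtain ⟨R, hR⟩ := (isPGroup_zpowers hr).exists_le_sylow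
        have hRc : Nat.card ↥(R : Subgroup K) = 3 := by
          simpa using card_sylow_eq (p := 3) (a := 1) (m := 4) (by rw [hK12]; norm_num) (by norm_num) R
        have hRr := zpowers_eq_sylow R hRc (hR (mem_zpowers r)) (ne_one_of_orderOf hr)
        set r' : H := (r : H)
        have hr' : orderOf r' = 3 := by rw [Subgroup.orderOf_coe]; exact hr
        have hKN : K ≤ normalizer (zpowers r' : Set H) := by
          intro z hz
          refine mem_normalizer_fintype fun a ha => ?_
          obtain ⟨i, rfl⟩ := mem_zpowers_iff.mp ha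
          rw [← conj_zpow]
          refine zpow_mem ?_ i
          obtain ⟨R', hR'⟩ := (isPGroup_zpowers ((MulEquiv.orderOf_eq (MulAut.conj (⟨z, hz⟩ : K)) r).trans hr)).exists_le_sylow
          rw [(Nat.card_eq_one_iff_unique.mp h1).1.elim R' R, ← hRr] at hR'
          obtain ⟨j, hj⟩ := mem_zpowers_iff.mp (hR' (mem_zpowers _))
          exact mem_zpowers_iff.mpr ⟨j, congrArg Subtype.val hj⟩
        have h12' : 12 ∣ Nat.card K := hK12.symm.dvd
        have hN12 := hR3 r' hr' K hKN h12'
        have heq := eq_of_le_of_card_ge hKN (by rw [hN12, hK12])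
        refine huK (heq.ge (centralizer_le_normalizer _ (mem_centralizer_iff.mpr fun a _ => ?_)))
        exact Subtype.ext (mem_centralizer_singleton_iff.mp a.2)
    have hdc := Finset.sum_card_bipartiteAbove_eq_sum_card_bipartiteBelow (s := A) (t := B)
      (fun y b => Commute y b)
    have h1 : 9 * A.card ≤ ∑ y ∈ A, (B.filter fun b => Commute y b).card := by
      have := Finset.card_nsmul_le_sum A (fun y => (B.filter fun b => Commute y b).card) 9 hlow
      rw [smul_eq_mul] at this
      linarith
    have h2 : ∑ b ∈ B, (A.filter fun y => Commute y b).card ≤ 5 * B.card := by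
      have := Finset.sum_le_card_nsmul B (fun b => (A.filter fun y => Commute y b).card) 5 hhigh
      rw [smul_eq_mul] at this
      linarith
    simp only [Finset.bipartiteAbove, Finset.bipartiteBelow] at hdc
    rw [hdc, hAc] at h1
    rw [hBc] at h2
    omega

end CfsgLib.SmallOrders
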