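import Cfsg.Agent.Lib.SmallOrders.O4320Index36
import Cfsg.Agent.Lib.SmallOrders.O4320Index216

/-!
There is no simple group of order `4320`.
-/

set_option autoImplicit false

universe u

namespace CfsgLib.SmallOrders

open Subgroup MulAction CfsgLib.SmallGroups

variable {G : Type u} [Group G] [Finite G] [IsSimpleGroup G]

theorem card_ne_4320 : Nat.card G ≠ 4320 := by
  intro h
  have hG := not_isMulCommutative_of_card_eq h (by norm_num)
  have : Fact (Nat.Prime 5) := ⟨by norm_num⟩
  obtain ⟨P⟩ := (inferInstance : Nonempty (Sylow 5 G))
  obtain ⟨c, e, -, -, he1, he, hne⟩ := sylow_prime_data hG (p := 5) (m := 864) h (by norm_num) P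
  have hmem := card_sylow_mem (p := 5) (a := 1) (m := 864) (G := G) (by rw [h]; norm_num) (by norm_num)
  rw [show (Nat.divisors 864).filter (fun d => d % 5 = 1) = {1, 6, 16, 36, 96, 216} by decide +kernel] at hmem
  simp only [Finset.mem_insert, Finset.mem_singleton] at hmem
  rcases hmem with hn | hn | hn | hn | hn | hn
  · have := one_lt_card_sylow (p := 5) hG (by rw [h]; norm_num)
    omega
  · have := two_mul_card_dvd_factorial_card_sylow (p := 5) hG (by rw [h]; norm_num)
    rw [hn, h, show Nat.factorial 6 = 720 by decide] at this
    norm_num at this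
  · exact false_of_16_4320 h P hn
  · exact false_of_36_4320 h P hn
  · rw [hn] at hne
    have he' : e ∣ 4 := he
    have := Nat.le_of_dvd (by norm_num) he'
    interval_cases e <;> omega
  · exact false_of_216_4320 h P hn

end CfsgLib.SmallOrders
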