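import Cfsg.Agent.Lib.SmallOrders.O5760Plane
import Cfsg.Agent.Lib.Involutions.ThompsonTransfer

/-!
Order `5040`: one hundred and twenty-six Sylow subgroups of order five.
-/

set_option autoImplicit false

universe u

namespace CfsgLib.SmallOrders

open Subgroup MulAction CfsgLib.SmallGroups

section

variable {G : Type u} [Group G]

/-- A subgroup with a twice smaller subgroup: the product of two outside elements lies inside. -/
theorem mul_mem_of_card_eq [Finite G] {V W : Subgroup G} (hVW : V ≤ W)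
    (hcard : Nat.card W = 2 * Nat.card V) {a b : G} (ha : a ∈ W) (hb : b ∈ W) (ha' : a ∉ V)
    (hb' : b ∉ V) : a * b ∈ V := by
  have hidx : (V.subgroupOf W).index = 2 := by
    have := (V.subgroupOf W).index_mul_card
    rw [Nat.card_congr (subgroupOfEquivOfLe hVW).toEquiv, hcard] at this
    exact Nat.eq_of_mul_eq_mul_right Nat.card_pos this
  have := (mul_mem_iff_of_index_two hidx (a := (⟨a, ha⟩ : W)) (b := ⟨b, hb⟩)).mpr (by
    constructor
    · exact fun h => absurd h ha'
    · exact fun h => absurd h hb')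
  exact this

/-- The group generated by `g` of order four and `w` with `w² = g²`, `w g w⁻¹ = g⁻¹`. -/
theorem quaternion_subgroup [Finite G] {g w : G} (hg : orderOf g = 4) (hw : w * w = g ^ 2)
    (hwg : w * g * w⁻¹ = g⁻¹) (hwn : w ∉ zpowers g) :
    ∃ M : Subgroup G, Nat.card M = 8 ∧ ∀ x ∈ M, x ^ 2 = 1 → x = 1 ∨ x = g ^ 2 := by
  have hnorm : zpowers w ≤ normalizer (zpowers g : Set G) := by
    refine zpowers_le.mpr (mem_normalizer_fintype ?_)
    intro n hn
    obtain ⟨i, rfl⟩ := mem_zpowers_iff.mp hn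
    rw [← conj_zpow, hwg, inv_zpow']
    exact zpow_mem (mem_zpowers g) _
  set M := zpowers w ⊔ zpowers g with hM
  have hpar : ∀ i : ℤ, w ^ i ∈ zpowers g ∨ ∃ k ∈ zpowers g, w ^ i = w * k := by
    intro i
    have hw2 : ∀ j : ℤ, w ^ (2 * j) ∈ zpowers g := fun j => by
      rw [zpow_mul, zpow_two, hw]
      exact zpow_mem (pow_mem (mem_zpowers g) 2) j
    rcases Int.even_or_odd' i with ⟨j, rfl | rfl⟩
    · exact Or.inl (hw2 j)
    · exact Or.inr ⟨_, hw2 j, by rw [add_comm, zpow_add, zpow_one]⟩
  have hmem : ∀ x ∈ M, x ∈ zpowers g ∨ ∃ k ∈ zpowers g, x = w * k := by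
    intro x hx
    rw [← SetLike.mem_coe, hM, coe_mul_of_left_le_normalizer_right _ _ hnorm] at hx
    obtain ⟨a, ha, b, hb, rfl⟩ := hx
    obtain ⟨i, rfl⟩ := mem_zpowers_iff.mp ha
    rcases hpar i with h | ⟨k, hk, e⟩
    · exact Or.inl (mul_mem h hb)
    · exact Or.inr ⟨k * b, mul_mem hk hb, by rw [← mul_assoc, ← e]⟩
  refine ⟨M, ?_, ?_⟩
  · have hle : Nat.card M ≤ 8 := by
      let f : zpowers g ⊕ zpowers g → M := Sum.elim
        (fun k => ⟨k, mem_sup_right k.2⟩) (fun k => ⟨w * k, mul_mem (mem_sup_left (mem_zpowers w)) (mem_sup_right k.2)⟩)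
      have hsurj : Function.Surjective f := by
        rintro ⟨x, hx⟩
        rcases hmem x hx with h | ⟨k, hk, rfl⟩
        · exact ⟨Sum.inl ⟨x, h⟩, rfl⟩
        · exact ⟨Sum.inr ⟨k, hk⟩, rfl⟩
      have := Nat.card_le_card_of_surjective f hsurj
      rw [Nat.card_sum, Nat.card_zpowers, hg] at this
      exact this
    have hd : 4 ∣ Nat.card M := by
      have := Subgroup.card_dvd_of_le (le_sup_right : zpowers g ≤ M)
      rwa [Nat.card_zpowers, hg] at this
    have hne : Nat.card M ≠ 4 := fun h => by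
      have e := eq_of_le_of_card_ge (le_sup_right : zpowers g ≤ M) (by rw [h, Nat.card_zpowers, hg])
      exact hwn (e.symm ▸ mem_sup_left (mem_zpowers w))
    have := Nat.card_pos (α := M)
    omega
  · intro x hx hx2
    rcases hmem x hx with h | ⟨k, hk, rfl⟩
    · obtain ⟨i, rfl⟩ := mem_zpowers_iff.mp h
      have e : g ^ (i * 2) = 1 := by rw [zpow_mul]; exact_mod_cast hx2
      have hd := orderOf_dvd_iff_zpow_eq_one.mpr e
      rw [hg] at hd
      rcases Int.even_or_odd' i with ⟨j, rfl | rfl⟩
      · rcases Int.even_or_odd' j with ⟨l, rfl | rfl⟩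
        · left
          exact orderOf_dvd_iff_zpow_eq_one.mp (by rw [hg]; omega)
        · right
          rw [← zpow_natCast g 2]
          exact orderOf_dvd_sub_iff_zpow_eq_zpow.mp (by rw [hg]; omega)
      · exfalso; omega
    · exfalso
      obtain ⟨i, rfl⟩ := mem_zpowers_iff.mp hk
      have e : w * g ^ i * (w * g ^ i) = g ^ 2 := by
        calc w * g ^ i * (w * g ^ i) = (w * g ^ i * w⁻¹) * (w * w) * g ^ i := by group
          _ = g ^ 2 := by rw [← conj_zpow, hwg, hw, inv_zpow']; group
      rw [pow_two, e] at hx2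
      have := Nat.le_of_dvd (by norm_num) (orderOf_dvd_of_pow_eq_one hx2)
      omega

end

variable {G : Type u} [Group G] [Finite G] [IsSimpleGroup G]

theorem false_of_126_5040 (h : Nat.card G = 5040) [Fact (Nat.Prime 5)] (P : Sylow 5 G)
    (hn : Nat.card (Sylow 5 G) = 126) : False := by
  classical
  have hG := not_isMulCommutative_of_card_eq h (by norm_num)
  have : Fact (Nat.Prime 2) := ⟨Nat.prime_two⟩
  obtain ⟨c, e, hC, hN, he1, he, hne⟩ := sylow_prime_data hG (p := 5) (m := 1008) h (by norm_num) P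
  rw [hn] at hne
  have he4 : e ∣ 4 := he
  have hce : c * e = 8 := by omega
  have hcases : (c = 4 ∧ e = 2) ∨ (c = 2 ∧ e = 4) := by
    have := Nat.le_of_dvd (by norm_num) he4
    interval_cases e <;> omega
  set N := normalizer ((P : Subgroup G) : Set G) with hNdef
  set CP := centralizer ((P : Subgroup G) : Set G) with hCPdef
  have hCN : CP ≤ N := centralizer_le_normalizer _
  have hN40 : Nat.card N = 40 := by rw [hN]; rcases hcases with ⟨rfl, rfl⟩ | ⟨rfl, rfl⟩ <;> norm_num
  have hP5 : Nat.card ↥(P : Subgroup G) = 5 := by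
    simpa using card_sylow_eq (p := 5) (a := 1) (m := 1008) (by rw [h]; norm_num) (by norm_num) P
  obtain ⟨q, hqP, hq⟩ := exists_mem_orderOf (p := 5) (P : Subgroup G) (by rw [hP5])
  have hzq := zpowers_eq_sylow P hP5 hqP (ne_one_of_orderOf hq)
  -- a Sylow `2`-subgroup `W` of `N`
  obtain ⟨W₀⟩ := (inferInstance : Nonempty (Sylow 2 N))
  set W : Subgroup G := (W₀ : Subgroup N).map N.subtype with hWdef
  have hW : Nat.card W = 8 := by
    rw [hWdef, Nat.card_congr (equivMapOfInjective _ _ N.subtype_injective).toEquiv.symm]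
    simpa using card_sylow_eq (p := 2) (a := 3) (m := 5) (by rw [hN40]; norm_num) (by norm_num) W₀
  have hWN : W ≤ N := map_subtype_le _
  set V := W ⊓ CP with hVdef
  have hV : Nat.card V = c := by
    have h1 : Nat.card V ∣ 8 := hW ▸ Subgroup.card_dvd_of_le inf_le_left
    have h2 : Nat.card V ∣ 5 * c := hC ▸ Subgroup.card_dvd_of_le inf_le_right
    have h3 : Nat.card V ∣ c := by
      refine (Nat.Coprime.dvd_mul_left ?_).mp h2
      exact Nat.Coprime.coprime_dvd_left h1 (by norm_num)
    -- `|W C| ≤ |N|`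
    have h4 : W.relIndex CP * Nat.card V = Nat.card CP := by
      rw [hVdef, inf_comm]
      have := relIndex_mul_relIndex ⊥ (CP ⊓ W) CP bot_le inf_le_left
      rw [relIndex_bot_left, relIndex_bot_left, inf_relIndex_left] at this
      rw [mul_comm]; exact this
    have h5 : W.relIndex CP ≤ W.relIndex N := relIndex_le_of_le_right hCN index_ne_zero_of_finite
    have h6 : W.relIndex N = 5 := by
      have := relIndex_mul_relIndex ⊥ W N bot_le hWN
      rw [relIndex_bot_left, relIndex_bot_left, hW, hN40] at this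
      omega
    rw [hC] at h4
    have hle : c ≤ Nat.card V := by
      have : 5 * c ≤ 5 * Nat.card V := by rw [← h4]; exact Nat.mul_le_mul_right _ (h6 ▸ h5)
      omega
    exact le_antisymm (Nat.le_of_dvd (by rcases hcases with ⟨rfl, -⟩ | ⟨rfl, -⟩ <;> norm_num) h3) hle
  have hWnV : ∀ x ∈ W, ∀ v ∈ V, x * v * x⁻¹ ∈ V := by
    intro x hx v hv
    refine mem_inf.mpr ⟨mul_mem (mul_mem hx hv.1) (inv_mem hx), ?_⟩
    refine mem_centralizer_iff.mpr fun a ha => ?_
    have ha' : x⁻¹ * a * x ∈ ((P : Subgroup G) : Set G) := by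
      have := (mem_normalizer_iff.mp (inv_mem (hWN hx)) a).mp ha
      rwa [inv_inv] at this
    calc a * (x * v * x⁻¹) = x * ((x⁻¹ * a * x) * v) * x⁻¹ := by group
      _ = x * (v * (x⁻¹ * a * x)) * x⁻¹ := by rw [mem_centralizer_iff.mp hv.2 _ ha']
      _ = x * v * x⁻¹ * a := by group
  -- involutions of `V` central in `W` have centraliser `N`
  have hcent : ∀ u ∈ V, orderOf u = 2 → (∀ x ∈ W, Commute x u) → centralizer ({u} : Set G) = N := by
    intro u hu hu2 hW'
    set Cu := centralizer ({u} : Set G) with hCu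
    have hmemCu : ∀ x : G, Commute x u → x ∈ Cu := fun x hx => mem_centralizer_iff.mpr fun t ht => by
      rw [Set.mem_singleton_iff] at ht
      rw [ht]; exact hx.eq.symm
    have hPC : (P : Subgroup G) ≤ Cu := fun a ha => hmemCu a (mem_centralizer_iff.mp hu.2 a ha)
    have hNC : N ≤ Cu := by
      have h40 : 40 ∣ Nat.card (N ⊓ Cu : Subgroup G) := by
        refine Nat.Coprime.mul_dvd_of_dvd_of_dvd (show Nat.Coprime 5 8 by norm_num) ?_ ?_
        · rw [← hP5]; exact Subgroup.card_dvd_of_le (le_inf le_normalizer hPC)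
        · rw [← hW]; exact Subgroup.card_dvd_of_le (le_inf hWN fun x hx => hmemCu x (hW' x hx))
      exact inf_eq_left.mp (eq_of_le_of_card_ge inf_le_left
        (by rw [hN40]; exact Nat.le_of_dvd Nat.card_pos h40))
    obtain ⟨k, hk5, hk, hk'⟩ := sylow_count P hPC
    rw [inf_eq_left.mpr hNC, hN40] at hk
    rw [hn] at hk'
    have hmul : Cu.index * Nat.card Cu = 5040 := by rw [index_mul_card, h]
    rw [← hk] at hmul
    have hdvd : k ∣ 126 := ⟨Cu.index, by
      refine Nat.eq_of_mul_eq_mul_right (show 0 < 40 by norm_num) ?_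
      rw [show 126 * 40 = Cu.index * (k * 40) from hmul.symm]; ring⟩
    have hkc : k = 1 ∨ k = 6 ∨ k = 21 ∨ k = 126 := by
      have hmem : k ∈ (Nat.divisors 126).filter (fun d => d % 5 = 1) :=
        Finset.mem_filter.mpr ⟨Nat.mem_divisors.mpr ⟨hdvd, by norm_num⟩, hk5⟩
      rw [show (Nat.divisors 126).filter (fun d => d % 5 = 1) = {1, 6, 21, 126} by decide +kernel] at hmem
      simpa only [Finset.mem_insert, Finset.mem_singleton] using hmem
    rcases hkc with rfl | rfl | rfl | rfl
    · exact (eq_of_le_of_card_ge hNC (by rw [← hk, hN40])).symm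
    · exfalso
      have hidx : Cu.index = 21 := by omega
      have hfq := card_fixedBy_sylow_eq_one P hzq hNC
      have hne' : Cu ≠ ⊤ := fun e => by rw [e, index_top] at hidx; omega
      have h1 : Nat.card (fixedBy (G ⧸ Cu) u) % 5 = 1 :=
        card_fixedBy_modEq_one (isPGroup_zpowers hq) (mem_centralizer_iff.mp hu.2 q hqP).symm hfq
      have h2 : 4 ∣ Nat.card (G ⧸ Cu) - Nat.card (fixedBy (G ⧸ Cu) u) :=
        four_dvd_moved hG (hu2 ▸ pow_orderOf_eq_one u)
      rw [← index_eq_card, hidx] at h2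
      have h3 := fix_lt_index hne' (ne_one_of_orderOf hu2)
      have hf : Nat.card (fixedBy (G ⧸ Cu) u) = 1 := by omega
      have hodd : Odd Cu.index := by rw [hidx]; decide
      exact false_of_isolated hG hu2 hodd hf
    · exfalso
      have hidx : Cu.index = 6 := by omega
      have := two_mul_card_dvd_factorial_index hG (fun e : Cu = ⊤ => by rw [e, index_top] at hidx; omega)
      rw [hidx, h, show Nat.factorial 6 = 720 by decide] at this
      norm_num at this
    · exfalso
      have hidx : Cu.index = 1 := by omega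
      have hvc : u ∈ center G := mem_center_iff.mpr fun g => by
        have hg : g ∈ Cu := index_eq_one.mp hidx ▸ mem_top g
        exact (mem_centralizer_iff.mp hg u (Set.mem_singleton u)).symm
      have hne : center G ≠ ⊥ := fun e => ne_one_of_orderOf hu2 (by rwa [e, mem_bot] at hvc)
      have htop : center G = ⊤ := (Subgroup.Normal.eq_bot_or_eq_top inferInstance).resolve_left hne
      exact hG ⟨⟨fun a b => (mem_center_iff.mp (htop ▸ mem_top b) a)⟩⟩
  -- some `y` outside `N` in a Sylow `2`-subgroup normalises `W`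
  obtain ⟨T, hWT⟩ := (IsPGroup.of_card (n := 3) (hW.trans rfl) : IsPGroup 2 W).exists_le_sylow
  have hT : Nat.card ↥(T : Subgroup G) = 16 := by
    simpa using card_sylow_eq (p := 2) (a := 4) (m := 315) (by rw [h]; norm_num) (by norm_num) T
  have hTN : ∀ y ∈ (T : Subgroup G), y ∈ N → y ∈ W := by
    intro y hy hyN
    have hd1 : Nat.card ((T : Subgroup G) ⊓ N : Subgroup G) ∣ 16 := hT ▸ Subgroup.card_dvd_of_le inf_le_left
    have hd2 : Nat.card ((T : Subgroup G) ⊓ N : Subgroup G) ∣ 40 := hN40 ▸ Subgroup.card_dvd_of_le inf_le_right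
    have hd : Nat.card ((T : Subgroup G) ⊓ N : Subgroup G) ∣ 8 := by
      have := Nat.dvd_gcd hd1 hd2
      rwa [show Nat.gcd 16 40 = 8 by decide] at this
    rw [eq_of_le_of_card_ge (le_inf hWT hWN) (by rw [hW]; exact Nat.le_of_dvd (by norm_num) hd)]
    exact ⟨hy, hyN⟩
  have hTW : ∀ y ∈ (T : Subgroup G), ∀ x ∈ W, y * x * y⁻¹ ∈ W := by
    intro y hy x hx
    have hidx : (W.subgroupOf (T : Subgroup G)).index = 2 := by
      have := (W.subgroupOf (T : Subgroup G)).index_mul_card
      rw [Nat.card_congr (subgroupOfEquivOfLe hWT).toEquiv, hW, hT] at this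
      omega
    exact (normal_of_index_eq_two hidx).conj_mem ⟨x, hWT hx⟩ hx ⟨y, hy⟩
  -- an involution of `V` central in `W`
  obtain ⟨u, huV, hu2, huW⟩ : ∃ u ∈ V, orderOf u = 2 ∧ ∀ x ∈ W, Commute x u := by
    letI : MulAction W V :=
      { smul := fun x v => ⟨x * v * (x : G)⁻¹, hWnV x x.2 v v.2⟩
        one_smul := fun v => Subtype.ext (by show (1 : G) * v * (1 : G)⁻¹ = v; group)
        mul_smul := fun a b v => Subtype.ext (by
          show ((a : G) * b) * v * ((a : G) * b)⁻¹ = a * (b * v * (b : G)⁻¹) * (a : G)⁻¹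
          group) }
    obtain ⟨⟨b, hbV⟩, hbfix, hb1⟩ := (IsPGroup.of_card (n := 3) (hW.trans rfl) :
      IsPGroup 2 W).exists_fixed_point_of_prime_dvd_card_of_fixed_point V
      (by rw [hV]; rcases hcases with ⟨rfl, -⟩ | ⟨rfl, -⟩ <;> norm_num) (a := 1)
      (fun x => Subtype.ext (by show (x : G) * 1 * (x : G)⁻¹ = 1; group))
    have hb1' : b ≠ 1 := fun e => hb1 (Subtype.ext e.symm)
    have hbc : ∀ x ∈ W, Commute x b := fun x hx =>
      mul_inv_eq_iff_eq_mul.mp (congrArg Subtype.val (hbfix ⟨x, hx⟩))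
    obtain ⟨k, -, hk⟩ := (Nat.dvd_prime_pow Nat.prime_two).mp
      ((Subgroup.orderOf_dvd_natCard _ hbV.1).trans (hW.trans (by norm_num : 8 = 2 ^ 3)).dvd)
    obtain _ | k := k
    · exact absurd (orderOf_eq_one_iff.mp (hk.trans (pow_zero 2))) hb1'
    refine ⟨b ^ 2 ^ k, pow_mem hbV _, orderOf_eq_prime ?_ ?_, fun x hx => (hbc x hx).pow_right _⟩
    · rw [← pow_mul, ← pow_succ, ← hk, pow_orderOf_eq_one]
    · intro e
      have := Nat.le_of_dvd (by positivity) (orderOf_dvd_of_pow_eq_one e)
      rw [hk] at this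
      exact absurd this (Nat.not_le.mpr (Nat.pow_lt_pow_succ (by norm_num)))
  have hCu := hcent u huV hu2 huW
  have hmove : ∀ y ∈ (T : Subgroup G), y ∉ W → y * u * y⁻¹ ≠ u := by
    intro y hy hyW e
    refine hyW (hTN y hy ?_)
    rw [← hCu]
    exact mem_centralizer_iff.mpr fun t ht => by
      rw [Set.mem_singleton_iff] at ht
      rw [ht]
      exact (mul_inv_eq_iff_eq_mul.mp e).symm
  obtain ⟨y, hy, hyW⟩ : ∃ y ∈ (T : Subgroup G), y ∉ W := by
    by_contra hcon
    push Not at hcon
    have := Subgroup.card_le_of_le (hcon : (T : Subgroup G) ≤ W)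
    omega
  rcases hcases with ⟨rfl, rfl⟩ | ⟨rfl, rfl⟩
  · -- `|C(P)| = 20`
    by_cases hab : ∀ a ∈ W, ∀ b ∈ W, Commute a b
    · by_cases hcyc : ∃ g ∈ V, orderOf g = 4
      · obtain ⟨g, hgV, hg⟩ := hcyc
        have hVg : zpowers g = V := eq_of_le_of_card_ge (zpowers_le.mpr hgV) (by rw [Nat.card_zpowers, hg, hV])
        have hug : u = g ^ 2 := by
          obtain ⟨i, hi⟩ : ∃ i : ℕ, i < 4 ∧ g ^ i = u := by
            have : u ∈ zpowers g := hVg ▸ huV
            rw [mem_zpowers_iff_mem_range_orderOf, hg, Finset.mem_image] at this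
            obtain ⟨i, hi, e⟩ := this
            exact ⟨i, Finset.mem_range.mp hi, e⟩
          obtain ⟨hi4, e⟩ := hi
          interval_cases i
          · exact absurd (e.symm.trans (pow_zero g)) (ne_one_of_orderOf hu2)
          · rw [pow_one] at e; rw [e, hu2] at hg; omega
          · exact e.symm
          · exfalso
            have : orderOf (g ^ 3) = 4 := by rw [orderOf_pow' g (by norm_num), hg]; norm_num
            rw [e, hu2] at this; omega
        set x := y * g * y⁻¹ with hx
        have hxW : x ∈ W := hTW y hy g hgV.1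
        have hx2 : y * u * y⁻¹ = x * x := by rw [hug, hx, pow_two]; group
        have hxxV : x * x ∈ V := by
          by_cases hxV : x ∈ V
          · exact mul_mem hxV hxV
          · exact mul_mem_of_card_eq inf_le_left (by rw [hW, hV]) hxW hxW hxV hxV
        rw [← hx2, ← hVg] at hxxV
        obtain ⟨i, hi⟩ := mem_zpowers_iff.mp hxxV
        have hi2 : g ^ (i * 2) = 1 := by
          rw [zpow_mul, hi, zpow_two,
            show y * u * y⁻¹ * (y * u * y⁻¹) = y * (u * u) * y⁻¹ by group, ← pow_two, ← hu2,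
            pow_orderOf_eq_one]
          group
        have hd := orderOf_dvd_iff_zpow_eq_one.mpr hi2
        rw [hg] at hd
        rcases Int.even_or_odd' i with ⟨j, rfl | rfl⟩
        · rcases Int.even_or_odd' j with ⟨l, rfl | rfl⟩
          · have : g ^ (2 * (2 * l)) = 1 := orderOf_dvd_iff_zpow_eq_one.mp (by rw [hg]; omega)
            rw [this, eq_comm, mul_inv_eq_one, mul_eq_left] at hi
            exact ne_one_of_orderOf hu2 hi
          · have : g ^ (2 * (2 * l + 1)) = g ^ (2 : ℤ) :=
              orderOf_dvd_sub_iff_zpow_eq_zpow.mp (by rw [hg]; omega)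
            rw [this, zpow_two, ← pow_two, ← hug] at hi
            exact hmove y hy hyW hi.symm
        · omega
      · push Not at hcyc
        have hinv : ∀ v ∈ V, v ≠ 1 → orderOf v = 2 := by
          intro v hv hv1
          have hd : orderOf v ∣ 4 := hV ▸ Subgroup.orderOf_dvd_natCard _ hv
          have := Nat.le_of_dvd (by norm_num) hd
          have h1 : orderOf v ≠ 1 := fun e => hv1 (orderOf_eq_one_iff.mp e)
          have h4 := hcyc v hv
          interval_cases (orderOf v) <;> omega
        let p : G → G := fun x => x * (y * x * y⁻¹)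
        have hyy : y * y ∈ W := mul_mem_of_card_eq hWT (by rw [hW, hT]) hy hy hyW hyW
        have hp : ∀ v ∈ V, v ≠ 1 → p v ∈ W ∧ p v ∉ V := by
          intro v hv hv1
          have hv2 := hinv v hv hv1
          have hyvW := hTW y hy v hv.1
          refine ⟨mul_mem hv.1 hyvW, fun hpV => ?_⟩
          have hvC : ∀ z ∈ V, orderOf z = 2 → y * z * y⁻¹ ≠ z := by
            intro z hz hz2 e
            refine hyW (hTN y hy ?_)
            rw [← hcent z hz hz2 fun x hx => hab x hx z hz.1]
            exact mem_centralizer_iff.mpr fun t ht => by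
              rw [Set.mem_singleton_iff] at ht
              rw [ht]
              exact (mul_inv_eq_iff_eq_mul.mp e).symm
          have hfix : y * p v * y⁻¹ = p v := by
            show y * (v * (y * v * y⁻¹)) * y⁻¹ = v * (y * v * y⁻¹)
            rw [show y * (v * (y * v * y⁻¹)) * y⁻¹ = (y * v * y⁻¹) * (y * y * v * (y * y)⁻¹) by group,
              mul_inv_eq_iff_eq_mul.mpr (hab _ hyy _ hv.1).eq, (hab _ hyvW _ hv.1).eq]
          rcases eq_or_ne (p v) 1 with h1 | h1
          · refine hvC v hv hv2 ?_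
            have : y * v * y⁻¹ = v⁻¹ := eq_inv_of_mul_eq_one_right h1
            rw [this]
            exact inv_eq_of_mul_eq_one_right (by rw [← pow_two, ← hv2, pow_orderOf_eq_one])
          · exact hvC _ hpV (hinv _ hpV h1) hfix
        obtain ⟨b, hbV, hb⟩ : ∃ b ∈ V, b ∉ zpowers u := by
          by_contra hcon
          push Not at hcon
          have := Subgroup.card_le_of_le (hcon : V ≤ zpowers u)
          rw [hV, Nat.card_zpowers, hu2] at this
          omega
        have hb1 : b ≠ 1 := fun e => hb (e ▸ one_mem _)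
        have hub : u * b ≠ 1 := fun e => hb ((eq_inv_of_mul_eq_one_right e) ▸ inv_mem (mem_zpowers u))
        obtain ⟨hu', hu''⟩ := hp u huV (ne_one_of_orderOf hu2)
        obtain ⟨hb', hb''⟩ := hp b hbV hb1
        refine (hp (u * b) (mul_mem huV hbV) hub).2 ?_
        have e : p (u * b) = p u * p b := by
          show u * b * (y * (u * b) * y⁻¹) = u * (y * u * y⁻¹) * (b * (y * b * y⁻¹))
          rw [show y * (u * b) * y⁻¹ = (y * u * y⁻¹) * (y * b * y⁻¹) by group, mul_assoc u b,
            ← mul_assoc b, ← (hab _ (hTW y hy u huV.1) _ hbV.1).eq]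
          group
        rw [e]
        exact mul_mem_of_card_eq inf_le_left (by rw [hW, hV]) hu' hb' hu'' hb''
    · -- a non-abelian group of order eight has a centre of order two
      push Not at hab
      obtain ⟨a, ha, b, hb, hab⟩ := hab
      have hZ : Nat.card (center W) = 2 := by
        have hd : Nat.card (center W) ∣ 8 := hW ▸ Subgroup.card_subgroup_dvd_card _
        have hne8 : Nat.card (center W) ≠ 8 := fun h8 => by
          have e : center W = ⊤ := eq_top_of_card_eq _ (h8.trans hW.symm)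
          have hbz : (⟨b, hb⟩ : W) ∈ center W := e ▸ mem_top _
          exact hab (congrArg Subtype.val (mem_center_iff.mp hbz ⟨a, ha⟩))
        have hne4 : Nat.card (center W) ≠ 4 := fun h4 => by
          have ha' : (⟨a, ha⟩ : W) ∉ center W := fun h' =>
            hab (congrArg Subtype.val (mem_center_iff.mp h' ⟨b, hb⟩)).symm
          have hb' : (⟨b, hb⟩ : W) ∉ center W := fun h' =>
            hab (congrArg Subtype.val (mem_center_iff.mp h' ⟨a, ha⟩))
          have hidx : (center W).index = 2 := by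
            have := (center W).index_mul_card
            rw [h4, hW] at this
            omega
          have hm : (⟨a, ha⟩ : W) * ⟨b, hb⟩ ∈ center W :=
            (mul_mem_iff_of_index_two hidx).mpr ⟨fun h' => absurd h' ha', fun h' => absurd h' hb'⟩
          have := congrArg Subtype.val (mem_center_iff.mp hm ⟨a, ha⟩)
          simp only [MulMemClass.coe_mul] at this
          rw [mul_assoc a b a, mul_right_inj] at this
          exact hab this
        have h1 : Nat.card (center W) ≠ 1 := fun h1 => by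
          have hu' : (⟨u, huV.1⟩ : W) ∈ center W :=
            mem_center_iff.mpr fun z => Subtype.ext (huW z z.2).eq
          rw [eq_bot_of_card_eq _ h1, mem_bot] at hu'
          exact ne_one_of_orderOf hu2 (congrArg Subtype.val hu')
        have := Nat.le_of_dvd (by norm_num) hd
        interval_cases (Nat.card (center W)) <;> omega
      refine hmove y hy hyW ?_
      have huc : (⟨u, huV.1⟩ : W) ∈ center W := mem_center_iff.mpr fun z => Subtype.ext (huW z z.2).eq
      have hyuc : (⟨y * u * y⁻¹, hTW y hy u huV.1⟩ : W) ∈ center W := by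
        refine mem_center_iff.mpr fun z => Subtype.ext ?_
        show (z : G) * (y * u * y⁻¹) = y * u * y⁻¹ * z
        have hz : y⁻¹ * z * y ∈ W := by
          have := hTW y⁻¹ (inv_mem hy) z z.2
          rwa [inv_inv] at this
        calc (z : G) * (y * u * y⁻¹) = y * ((y⁻¹ * z * y) * u) * y⁻¹ := by group
          _ = y * (u * (y⁻¹ * z * y)) * y⁻¹ := by rw [(huW _ hz).eq]
          _ = y * u * y⁻¹ * z := by group
      obtain ⟨o, ho, huniq⟩ := (Nat.card_eq_two_iff' (⟨1, one_mem _⟩ : center W)).mp hZ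
      have e1 := huniq ⟨_, huc⟩ fun e => ne_one_of_orderOf hu2 (congrArg (fun z : center W => ((z : W) : G)) e)
      have e2 := huniq ⟨_, hyuc⟩ fun e => ne_one_of_orderOf hu2 (by
        have := congrArg (fun z : center W => ((z : W) : G)) e
        simp only [OneMemClass.coe_one] at this
        rwa [mul_inv_eq_one, mul_eq_left] at this)
      exact congrArg (fun z : center W => ((z : W) : G)) (e2.trans e1.symm)
  · -- `|C(P)| = 10`
    obtain ⟨g₀, hg₀, hgq₀⟩ := exists_square_conj P hzq hq hC hN
    set g₁ := g₀ ^ 5 with hg₁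
    have hg₁8 : g₁ ^ 8 = 1 := by
      rw [hg₁, ← pow_mul]
      exact orderOf_dvd_iff_pow_eq_one.mp ((Subgroup.orderOf_dvd_natCard _ hg₀).trans hN40.dvd)
    have hg₁q : g₁ * q * g₁⁻¹ = q ^ 2 := by
      have hpow : ∀ n : ℕ, g₀ ^ n * q * (g₀ ^ n)⁻¹ = q ^ (2 ^ n) := by
        intro n
        induction n with
        | zero => simp
        | succ n ih =>
          calc g₀ ^ (n + 1) * q * (g₀ ^ (n + 1))⁻¹ = g₀ * (g₀ ^ n * q * (g₀ ^ n)⁻¹) * g₀⁻¹ := by
                rw [pow_succ']; group
            _ = (g₀ * q * g₀⁻¹) ^ (2 ^ n) := by rw [ih, conj_pow]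
            _ = q ^ (2 ^ (n + 1)) := by rw [hgq₀, ← pow_mul, pow_succ']
      rw [hg₁, hpow 5]
      exact pow_eq_pow_iff_modEq.mpr (by rw [hq]; decide)
    -- move it into `W`
    obtain ⟨W₁, hW₁⟩ : ∃ W₁ : Sylow 2 N, (⟨g₁, pow_mem hg₀ 5⟩ : N) ∈ W₁ := by
      have hp : IsPGroup 2 (zpowers (⟨g₁, pow_mem hg₀ 5⟩ : N)) := fun z => ⟨3, Subtype.ext (by
        obtain ⟨i, hi⟩ := mem_zpowers_iff.mp z.2
        rw [SubmonoidClass.coe_pow, ← hi, OneMemClass.coe_one, ← zpow_natCast, ← zpow_mul, mul_comm,
          zpow_mul, zpow_natCast,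
          show (⟨g₁, pow_mem hg₀ 5⟩ : N) ^ (2 ^ 3) = 1 from Subtype.ext hg₁8, one_zpow])⟩
      obtain ⟨W₁, h'⟩ := hp.exists_le_sylow
      exact ⟨W₁, h' (mem_zpowers _)⟩
    obtain ⟨a, ha⟩ := MulAction.exists_smul_eq N W₁ W₀
    set g := (a : G) * g₁ * (a : G)⁻¹ with hg
    have hgW : g ∈ W := by
      refine ⟨a * ⟨g₁, pow_mem hg₀ 5⟩ * a⁻¹, ?_, rfl⟩
      rw [← ha]
      exact ⟨_, hW₁, rfl⟩
    have haq : ∃ j : ℕ, (a : G)⁻¹ * q * a = q ^ j := by
      have hm : (a : G)⁻¹ * q * a ∈ zpowers q := by
        rw [hzq]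
        have := (mem_normalizer_iff.mp (inv_mem a.2) q).mp hqP
        rwa [inv_inv] at this
      rw [mem_zpowers_iff_mem_range_orderOf, Finset.mem_image] at hm
      obtain ⟨j, -, hj⟩ := hm
      exact ⟨j, hj.symm⟩
    obtain ⟨j, hj⟩ := haq
    have hgq : g * q * g⁻¹ = q ^ 2 := by
      have e : (a : G) * q ^ j * (a : G)⁻¹ = q := by rw [← hj]; group
      calc g * q * g⁻¹ = (a : G) * (g₁ * ((a : G)⁻¹ * q * a) * g₁⁻¹) * (a : G)⁻¹ := by rw [hg]; group
        _ = (a : G) * (g₁ * q * g₁⁻¹) ^ j * (a : G)⁻¹ := by rw [hj, conj_pow]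
        _ = ((a : G) * q ^ j * (a : G)⁻¹) ^ 2 := by rw [hg₁q, conj_pow, ← pow_mul, ← pow_mul, mul_comm]
        _ = q ^ 2 := by rw [e]
    set s := g ^ 2 with hs
    have hsq : s * q * s⁻¹ = q⁻¹ := by
      rw [hs, show g ^ 2 * q * (g ^ 2)⁻¹ = g * (g * q * g⁻¹) * g⁻¹ by rw [pow_two]; group, hgq,
        ← conj_pow, hgq, ← pow_mul, eq_inv_iff_mul_eq_one, ← pow_succ,
        show 2 * 2 + 1 = orderOf q by rw [hq], pow_orderOf_eq_one]
    have hsC : s ∉ CP := fun h' => by
      rw [← mem_centralizer_iff.mp h' q hqP, mul_inv_cancel_right, eq_inv_iff_mul_eq_one, ← pow_two] at hsq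
      have := Nat.le_of_dvd (by norm_num) (orderOf_dvd_of_pow_eq_one hsq)
      omega
    have hs1 : s ≠ 1 := fun e => hsC (e ▸ one_mem _)
    have hg8 : orderOf g ∣ 8 := hW ▸ Subgroup.orderOf_dvd_natCard _ hgW
    have hug : Commute g u := huW g hgW
    have huu : u * u = 1 := by rw [← pow_two, ← hu2, pow_orderOf_eq_one]
    have hgo : orderOf g = 4 := by
      have := Nat.le_of_dvd (by norm_num) hg8
      have h1 : ¬ orderOf g ∣ 2 := fun h' => hs1 (orderOf_dvd_iff_pow_eq_one.mp h')
      by_contra h4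
      have h8 : orderOf g = 8 := by
        interval_cases (orderOf g) <;> omega
      -- `W` is cyclic, so `u` is its only involution
      have hWg : zpowers g = W := eq_of_le_of_card_ge (zpowers_le.mpr hgW) (by rw [Nat.card_zpowers, h8, hW])
      have honly : ∀ x ∈ W, x * x = 1 → x ≠ 1 → x = g ^ 4 := by
        intro x hx hxx hx1
        obtain ⟨i, rfl⟩ := mem_zpowers_iff.mp (hWg ▸ hx)
        have hd := orderOf_dvd_iff_zpow_eq_one.mpr (show g ^ (i + i) = 1 by rw [zpow_add]; exact hxx)
        rw [h8] at hd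
        have hnd : ¬ (8 : ℤ) ∣ i := fun h' => hx1 (orderOf_dvd_iff_zpow_eq_one.mp (by rw [h8]; exact h'))
        rw [← zpow_natCast g 4]
        exact orderOf_dvd_sub_iff_zpow_eq_zpow.mp (by rw [h8]; omega)
      refine hmove y hy hyW ?_
      rw [honly u huV.1 huu (ne_one_of_orderOf hu2)]
      refine honly _ (hTW y hy _ (pow_mem hgW 4)) ?_ ?_
      · calc y * g ^ 4 * y⁻¹ * (y * g ^ 4 * y⁻¹) = y * (g ^ 4 * g ^ 4) * y⁻¹ := by group
          _ = 1 := by rw [← pow_add, show 4 + 4 = orderOf g by rw [h8], pow_orderOf_eq_one]; group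
      · intro e'
        rw [mul_inv_eq_one, mul_eq_left] at e'
        have := Nat.le_of_dvd (by norm_num) (orderOf_dvd_of_pow_eq_one e')
        omega
    have hun : u ∉ zpowers g := by
      intro h'
      rw [mem_zpowers_iff_mem_range_orderOf, hgo, Finset.mem_image] at h'
      obtain ⟨i, hi, e⟩ := h'
      rw [Finset.mem_range] at hi
      interval_cases i
      · exact ne_one_of_orderOf hu2 (by rw [← e, pow_zero])
      · rw [pow_one] at e; rw [e, hu2] at hgo; omega
      · exact hsC (show s ∈ CP by rw [hs, e]; exact huV.2)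
      · have : orderOf (g ^ 3) = 4 := by rw [orderOf_pow' g (by norm_num), hgo]; norm_num
        rw [e, hu2] at this; omega
    -- the elements of `W`
    have hWelem : ∀ x ∈ W, ∃ i : Fin 4, x = g ^ (i : ℕ) ∨ x = g ^ (i : ℕ) * u := by
      have hin : ∀ z ∈ zpowers g, ∃ i : Fin 4, z = g ^ (i : ℕ) := by
        intro z hz
        rw [mem_zpowers_iff_mem_range_orderOf, hgo, Finset.mem_image] at hz
        obtain ⟨i, hi, rfl⟩ := hz
        exact ⟨⟨i, Finset.mem_range.mp hi⟩, rfl⟩
      intro x hx
      by_cases hxg : x ∈ zpowers g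
      · obtain ⟨i, hi⟩ := hin x hxg
        exact ⟨i, Or.inl hi⟩
      · obtain ⟨i, hi⟩ := hin _ (mul_mem_of_card_eq (zpowers_le.mpr hgW)
          (by rw [hW, Nat.card_zpowers, hgo]) hx huV.1 hxg hun)
        exact ⟨i, Or.inr (by rw [← hi, mul_assoc, huu, mul_one])⟩
    have hab : ∀ a ∈ W, ∀ b ∈ W, Commute a b := by
      intro a ha b hb
      obtain ⟨i, rfl | rfl⟩ := hWelem a ha <;> obtain ⟨j, rfl | rfl⟩ := hWelem b hb
      · exact Commute.pow_pow_self g _ _
      · exact (Commute.pow_pow_self g _ _).mul_right (hug.pow_left _)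
      · exact (Commute.pow_pow_self g _ _).mul_left (hug.pow_left _).symm
      · exact ((Commute.pow_pow_self g _ _).mul_right (hug.pow_left _)).mul_left
          (((hug.pow_left _).symm).mul_right (Commute.refl u))
    have hg4 : g ^ 4 = 1 := hgo ▸ pow_orderOf_eq_one g
    have hss : s * s = 1 := by rw [hs, ← pow_add]; exact hg4
    have hinvW : ∀ x ∈ W, x * x = 1 → x = 1 ∨ x = s ∨ x = u ∨ x = s * u := by
      intro x hx hxx
      obtain ⟨⟨i, hi⟩, rfl | rfl⟩ := hWelem x hx <;> simp only at hxx ⊢
      · rw [← pow_add] at hxx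
        have hd := orderOf_dvd_of_pow_eq_one hxx
        rw [hgo] at hd
        interval_cases i
        · exact Or.inl (pow_zero g)
        · omega
        · exact Or.inr (Or.inl hs.symm)
        · omega
      · have e : g ^ i * u * (g ^ i * u) = g ^ (i + i) := by
          rw [(hug.pow_left i).symm.mul_mul_mul_comm, huu, mul_one, pow_add]
        rw [e] at hxx
        have hd := orderOf_dvd_of_pow_eq_one hxx
        rw [hgo] at hd
        interval_cases i
        · exact Or.inr (Or.inr (Or.inl (by rw [pow_zero, one_mul])))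
        · omega
        · exact Or.inr (Or.inr (Or.inr (by rw [hs])))
        · omega
    have hsquare : ∀ x ∈ W, x * x = 1 ∨ x * x = s := by
      intro x hx
      obtain ⟨⟨i, hi⟩, rfl | rfl⟩ := hWelem x hx <;> simp only
      · interval_cases i
        · exact Or.inl (by simp)
        · exact Or.inr (by rw [hs, pow_one, pow_two])
        · exact Or.inl hss
        · exact Or.inr (by rw [hs, ← pow_add, show 3 + 3 = 4 + 2 from rfl, pow_add, hg4, one_mul])
      · rw [(hug.pow_left i).symm.mul_mul_mul_comm, huu, mul_one]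
        interval_cases i
        · exact Or.inl (by simp)
        · exact Or.inr (by rw [hs, pow_one, pow_two])
        · exact Or.inl hss
        · exact Or.inr (by rw [hs, ← pow_add, show 3 + 3 = 4 + 2 from rfl, pow_add, hg4, one_mul])
    have hTs : ∀ z ∈ (T : Subgroup G), z * s * z⁻¹ = s := by
      intro z hz
      have e : z * g * z⁻¹ * (z * g * z⁻¹) = z * s * z⁻¹ := by rw [hs, pow_two]; group
      rcases hsquare _ (hTW z hz g hgW) with h1 | h1
      · rw [e, mul_inv_eq_one, mul_eq_left] at h1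
        exact absurd h1 hs1
      · rwa [e] at h1
    have hsconj : ¬ IsConj u s := by
      intro hc
      have h16 : 16 ∣ Nat.card ↥(centralizer ({s} : Set G)) := by
        rw [← hT]
        refine Subgroup.card_dvd_of_le fun z hz => mem_centralizer_iff.mpr fun t ht => ?_
        rw [Set.mem_singleton_iff] at ht
        rw [ht]
        exact (mul_inv_eq_iff_eq_mul.mp (hTs z hz)).symm
      have h1 := card_isConj_mul_card_centralizer s
      have h2 := card_isConj_mul_card_centralizer u
      rw [hCu, hN40] at h2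
      have hsame : Nat.card {x // IsConj s x} = Nat.card {x // IsConj u x} :=
        Nat.card_congr (Equiv.subtypeEquivRight fun x => ⟨hc.trans, hc.symm.trans⟩)
      rw [hsame] at h1
      obtain ⟨j, hj⟩ := h16
      rw [hj] at h1
      have hpos : 0 < Nat.card {x // IsConj u x} := by
        rw [h] at h2; rcases Nat.eq_zero_or_pos (Nat.card {x // IsConj u x}) with e | e
        · rw [e] at h2; omega
        · exact e
      have : 40 = 16 * j := Nat.eq_of_mul_eq_mul_left hpos (h2.trans h1.symm)
      omega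
    -- an involution conjugate to `u` in `T` outside `W`
    obtain ⟨y', hy', hy'W, hy'c⟩ : ∃ x ∈ (T : Subgroup G), x ∉ W ∧ IsConj u x := by
      by_contra hcon
      push Not at hcon
      have h1 := fix_mul_card (T : Subgroup G) u
      rw [hCu, hN40, hT] at h1
      have hsub : {x : G | IsConj u x ∧ x ∈ (T : Subgroup G)} ⊆ ({u, s * u} : Set G) := by
        rintro x ⟨hx, hxT⟩
        have hxW : x ∈ W := by_contra fun h' => hcon x hxT h' hx
        obtain ⟨b, rfl⟩ := isConj_iff.mp hx
        have hxx : b * u * b⁻¹ * (b * u * b⁻¹) = 1 := by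
          rw [show b * u * b⁻¹ * (b * u * b⁻¹) = b * (u * u) * b⁻¹ by group, huu]; group
        rcases hinvW _ hxW hxx with e | e | e | e
        · rw [mul_inv_eq_one, mul_eq_left] at e
          exact absurd e (ne_one_of_orderOf hu2)
        · exact absurd (e ▸ hx) hsconj
        · exact Or.inl e
        · exact Or.inr e
      have h2 : Nat.card {x : G // IsConj u x ∧ x ∈ (T : Subgroup G)} ≤ 2 := by
        have h3 := Set.ncard_le_ncard hsub (Set.toFinite _)
        rw [← Nat.card_coe_set_eq] at h3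
        exact h3.trans ((Set.ncard_insert_le u {s * u}).trans (by rw [Set.ncard_singleton]))
      have h4 : 4 ∣ Nat.card (G ⧸ (T : Subgroup G)) - Nat.card (fixedBy (G ⧸ (T : Subgroup G)) u) :=
        four_dvd_moved hG (hu2 ▸ pow_orderOf_eq_one u)
      have hidx : (T : Subgroup G).index = 315 := by
        have := (T : Subgroup G).index_mul_card
        rw [hT, h] at this
        omega
      rw [← index_eq_card, hidx] at h4
      omega
    -- `y'` is an involution
    have hyy : y' * y' = 1 := by
      obtain ⟨b, rfl⟩ := isConj_iff.mp hy'c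
      rw [show b * u * b⁻¹ * (b * u * b⁻¹) = b * (u * u) * b⁻¹ by group, huu]; group
    have hyi : y'⁻¹ = y' := inv_eq_of_mul_eq_one_right hyy
    have hyu : y' * u * y'⁻¹ = s * u := by
      have hxx : y' * u * y'⁻¹ * (y' * u * y'⁻¹) = 1 := by
        rw [show y' * u * y'⁻¹ * (y' * u * y'⁻¹) = y' * (u * u) * y'⁻¹ by group, huu]; group
      rcases hinvW _ (hTW y' hy' u huV.1) hxx with e | e | e | e
      · rw [mul_inv_eq_one, mul_eq_left] at e
        exact absurd e (ne_one_of_orderOf hu2)
      · exact absurd (isConj_iff.mpr ⟨y', e⟩) hsconj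
      · exact absurd e (hmove y' hy' hy'W)
      · exact e
    have hys : y' * s * y'⁻¹ = s := hTs y' hy'
    -- a generator inverted by `y'`
    obtain ⟨g', hg'W, hg'2, hg'u, hg'y⟩ :
        ∃ g' ∈ W, g' ^ 2 = s ∧ g' ∉ zpowers u ∧ y' * g' * y'⁻¹ = g'⁻¹ := by
      have hgu2 : (g * u) ^ 2 = s := by rw [hug.mul_pow, pow_two u, huu, mul_one]
      have hnot : ∀ x : G, x ^ 2 = s → x ∉ zpowers u := fun x hx hxu => by
        obtain ⟨i, rfl⟩ := mem_zpowers_iff.mp hxu
        have : (u ^ i) ^ 2 = 1 := by
          rw [← zpow_natCast, ← zpow_mul, mul_comm, zpow_mul, zpow_natCast, pow_two, huu, one_zpow]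
        exact hs1 (hx.symm.trans this)
      have hginv : g⁻¹ = g * s := by
        rw [inv_eq_iff_mul_eq_one, hs, ← pow_succ', ← pow_succ']; exact hg4
      have hconj2 : y' * (y' * g * y'⁻¹) * y'⁻¹ = g := by
        rw [show y' * (y' * g * y'⁻¹) * y'⁻¹ = (y' * y') * g * (y' * y')⁻¹ by group, hyy]; group
      have hsg : Commute s g := by rw [hs]; exact Commute.pow_self g 2
      have hdist : ∀ a b : G, y' * (a * b) * y'⁻¹ = (y' * a * y'⁻¹) * (y' * b * y'⁻¹) :=
        fun a b => by group
      set k := y' * g * y'⁻¹ with hk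
      have hk2 : k * k = s := by rw [hk, ← hdist, ← pow_two, ← hs, hys]
      obtain ⟨⟨i, hi⟩, e | e⟩ := hWelem k (hTW y' hy' g hgW) <;> simp only at e
      · interval_cases i
        · rw [e, pow_zero, one_mul] at hk2; exact absurd hk2.symm hs1
        · rw [pow_one] at e
          refine ⟨g * u, mul_mem hgW huV.1, hgu2, hnot _ hgu2, ?_⟩
          rw [hdist, ← hk, e, hyu, mul_inv_rev, inv_eq_of_mul_eq_one_right huu, hginv, ← mul_assoc]
          rw [mul_assoc g s u, (hab s (pow_mem hgW 2) u huV.1).eq, ← mul_assoc g u s, hug.eq]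
          group
        · rw [e, ← hs, hss] at hk2; exact absurd hk2.symm hs1
        · refine ⟨g, hgW, hs.symm, hnot g hs.symm, ?_⟩
          rw [← hk, e, hginv, hs, ← pow_succ']
      · exfalso
        have h2 : y' * k * y'⁻¹ = g := hconj2
        rw [e, hdist, ← conj_pow, ← hk, e, hyu] at h2
        rw [e, (hug.pow_left i).symm.mul_mul_mul_comm, huu, mul_one, ← pow_add] at hk2
        have hus : u * (s * u) = s := by
          rw [(hab s (pow_mem hgW 2) u huV.1).eq, ← mul_assoc, huu, one_mul]
        have hu3 : u ^ 3 = u := by rw [pow_succ, pow_two, huu, one_mul]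
        interval_cases i
        · rw [pow_zero] at hk2; exact hs1 hk2.symm
        · rw [pow_one, pow_one, mul_assoc, hus, mul_eq_left] at h2
          exact hs1 h2
        · rw [show g ^ (2 + 2) = g ^ 4 from rfl, hg4] at hk2
          exact hs1 hk2.symm
        · rw [(hug.pow_left 3).mul_pow, hu3, ← pow_mul, show 3 * 3 = 4 + (4 + 1) from rfl, pow_add,
            pow_add, hg4, one_mul, one_mul, pow_one, mul_assoc, hus, mul_eq_left] at h2
          exact hs1 h2
    -- the quaternion subgroup
    set w := y' * (g' * u) with hwdef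
    have hg'u' : Commute g' u := hab g' hg'W u huV.1
    have hww : w * w = g' ^ 2 := by
      calc w * w = (y' * g' * y'⁻¹) * (y' * u * y'⁻¹) * (y' * y') * (g' * u) := by
            rw [hwdef]; group
        _ = g'⁻¹ * (s * u) * (g' * u) := by rw [hg'y, hyu, hyy, mul_one]
        _ = g'⁻¹ * s * ((u * g') * u) := by group
        _ = g'⁻¹ * s * g' * (u * u) := by rw [← hg'u'.eq]; group
        _ = g' ^ 2 := by
          rw [huu, mul_one, ← hg'2]; group
    have hwg : w * g' * w⁻¹ = g'⁻¹ := by
      calc w * g' * w⁻¹ = y' * (g' * (u * g' * u⁻¹) * g'⁻¹) * y'⁻¹ := by rw [hwdef]; group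
        _ = g'⁻¹ := by rw [mul_inv_eq_iff_eq_mul.mpr hg'u'.symm.eq, mul_inv_cancel_right, hg'y]
    have hg'o : orderOf g' = 4 := orderOf_eq_prime_pow (p := 2) (n := 1)
      (by rw [show 2 ^ 1 = 2 from rfl, hg'2]; exact hs1)
      (by rw [show 2 ^ (1 + 1) = 2 * 2 from rfl, pow_mul, hg'2, pow_two, hss])
    have hwn : w ∉ zpowers g' := fun h' => hy'W (by
      have hwW : w ∈ W := zpowers_le.mpr hg'W h'
      rw [hwdef] at hwW
      have := mul_mem hwW (inv_mem (mul_mem hg'W huV.1))
      rwa [mul_inv_cancel_right] at this)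
    obtain ⟨M, hM8, hMinv⟩ := quaternion_subgroup hg'o hww hwg hwn
    have hMidx : M.index % 4 = 2 := by
      have := M.index_mul_card
      rw [hM8, h] at this
      omega
    obtain ⟨K, hK⟩ := CfsgLib.Involutions.exists_index_two_of_involution_not_conj hu2 hMidx (by
      intro b hb
      have hxx : (b * u * b⁻¹) ^ 2 = 1 := by rw [conj_pow, pow_two, huu]; group
      rcases hMinv _ hb hxx with e | e
      · rw [mul_inv_eq_one, mul_eq_left] at e
        exact ne_one_of_orderOf hu2 e
      · rw [hg'2] at e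
        exact hsconj (isConj_iff.mpr ⟨b, e⟩))
    exact index_ne_two hG K hK

end CfsgLib.SmallOrders
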