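import Cfsg.Agent.Lib.SmallOrders.O5760Plane

/-!
There is no simple group of order `5760`.
-/

set_option autoImplicit false

universe u

namespace CfsgLib.SmallOrders

open Subgroup MulAction CfsgLib.SmallGroups

variable {G : Type u} [Group G] [Finite G] [IsSimpleGroup G]

theorem card_ne_5760 : Nat.card G ≠ 5760 := by
  intro h
  have hG := not_isMulCommutative_of_card_eq h (by norm_num)
  have : Fact (Nat.Prime 5) := ⟨by norm_num⟩
  obtain ⟨P⟩ := (inferInstance : Nonempty (Sylow 5 G))
  obtain ⟨c, e, hC, hN, he1, he, hne⟩ := sylow_prime_data hG (p := 5) (m := 1152) h (by norm_num) P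
  have hmem := card_sylow_mem (p := 5) (a := 1) (m := 1152) (G := G) (by rw [h]; norm_num) (by norm_num)
  rw [show (Nat.divisors 1152).filter (fun d => d % 5 = 1) = {1, 6, 16, 36, 96, 576} by decide +kernel] at hmem
  simp only [Finset.mem_insert, Finset.mem_singleton] at hmem
  have he' : e ∣ 4 := he
  rcases hmem with hn | hn | hn | hn | hn | hn
  · have := one_lt_card_sylow (p := 5) hG (by rw [h]; norm_num)
    omega
  · have := two_mul_card_dvd_factorial_card_sylow (p := 5) hG (by rw [h]; norm_num)
    rw [hn, h, show Nat.factorial 6 = 720 by decide] at this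
    norm_num at this
  · exact false_of_16_5760 h P hC hn (by rw [hn] at hne; omega) he'
  · exact false_of_36_5760 h P hC hN hn (by rw [hn] at hne; omega) he'
  · have hce : c * e = 12 := by rw [hn] at hne; omega
    obtain ⟨v, hvC, hv, hidx, hNH⟩ := exists_data_96 h P hC hN hn hce he' he1
    have := Nat.le_of_dvd (by norm_num) he'
    interval_cases e
    · -- an involution centralises `P`
      have : Fact (Nat.Prime 2) := ⟨Nat.prime_two⟩
      obtain ⟨t, htC, ht⟩ := exists_mem_orderOf (p := 2) (centralizer ((P : Subgroup G) : Set G))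
        (by rw [hC]; omega)
      have hP5 : Nat.card ↥(P : Subgroup G) = 5 := by
        simpa using card_sylow_eq (p := 5) (a := 1) (m := 1152) (by rw [h]; norm_num) (by norm_num) P
      obtain ⟨q, hqP, hq⟩ := exists_mem_orderOf (p := 5) (P : Subgroup G) (by rw [hP5])
      exact false_of_sixteen hG hidx hq ht (mem_centralizer_iff.mp htC q hqP).symm
        (card_fixedBy_sylow_eq_one P (zpowers_eq_sylow P hP5 hqP (ne_one_of_orderOf hq)) hNH)
    · norm_num at he'
    · obtain rfl : c = 3 := by omega
      exact false_of_plane_96 h P hC hN hvC hv hidx hNH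
  · obtain ⟨rfl, rfl⟩ : c = 1 ∧ e = 2 := by
      rw [hn] at hne
      have hce : c * e = 2 := by omega
      have : e ∣ 2 := ⟨c, by rw [← hce, mul_comm]⟩
      have := Nat.le_of_dvd (by norm_num) this
      interval_cases e
      exact ⟨by omega, rfl⟩
    exact false_of_self_576 h P hC hN

end CfsgLib.SmallOrders
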