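import Cfsg.Agent.Lib.SmallOrders.O5760
import Cfsg.Agent.Lib.SmallGroups.InvolutionCentralizer

/-!
Order `4320`: sixteen Sylow subgroups of order five, and tools for thirty-six.
-/

set_option autoImplicit false

universe u

namespace CfsgLib.SmallOrders

open Subgroup MulAction CfsgLib.SmallGroups

variable {G : Type u} [Group G] [Finite G]

/-- An element of a power order of `p` commuting with `v` lies, with `v`, in a subgroup of order
divisible by `p ^ 2` inside the centraliser. -/
theorem sq_dvd_card_centralizer {p : ℕ} [hp : Fact p.Prime] (hG : p ^ 2 ∣ Nat.card G) {v : G}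
    (hv : orderOf v = p) : p ^ 2 ∣ Nat.card ↥(centralizer ({v} : Set G)) := by
  obtain ⟨R, hR⟩ := (isPGroup_zpowers hv).exists_le_sylow
  have hvR : v ∈ (R : Subgroup G) := hR (mem_zpowers v)
  obtain ⟨n, hn⟩ := IsPGroup.iff_card.mp R.isPGroup'
  have hn2 : 2 ≤ n := by
    have h : p ^ 2 ∣ Nat.card ↥(R : Subgroup G) := by
      obtain ⟨S, hS⟩ := Sylow.exists_subgroup_card_pow_prime p hG
      obtain ⟨R', hR'⟩ := (IsPGroup.of_card (n := 2) hS : IsPGroup p S).exists_le_sylow
      rw [R.card_eq_multiplicity, ← R'.card_eq_multiplicity, ← hS]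
      exact Subgroup.card_dvd_of_le hR'
    rw [hn] at h
    exact (Nat.pow_dvd_pow_iff_le_right hp.out.one_lt).mp h
  have : Nontrivial ↥(R : Subgroup G) := by
    rw [← Finite.one_lt_card_iff_nontrivial, hn]
    exact Nat.one_lt_pow (by omega) hp.out.one_lt
  have := R.isPGroup'.center_nontrivial
  by_cases hvz : (⟨v, hvR⟩ : (R : Subgroup G)) ∈ center ↥(R : Subgroup G)
  · have hle : (R : Subgroup G) ≤ centralizer ({v} : Set G) := fun g hg =>
      mem_centralizer_singleton_iff.mpr (congrArg Subtype.val (mem_center_iff.mp hvz ⟨g, hg⟩))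
    have := Subgroup.card_dvd_of_le hle
    rw [hn] at this
    exact (pow_dvd_pow p hn2).trans this
  · set Z := (center ↥(R : Subgroup G)).map (R : Subgroup G).subtype with hZ
    have hZp : IsPGroup p Z := (R.isPGroup'.to_subgroup _).map _
    have hnorm : zpowers v ≤ normalizer (Z : Set G) := by
      refine zpowers_le.mpr (mem_normalizer_fintype ?_)
      rintro _ ⟨z, hz, rfl⟩
      refine ⟨z, hz, ?_⟩
      have := congrArg Subtype.val (mem_center_iff.mp hz ⟨v, hvR⟩)
      show (z : G) = v * z * v⁻¹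
      rw [eq_mul_inv_iff_mul_eq]
      exact this.symm
    obtain ⟨m, hm⟩ := IsPGroup.iff_card.mp (IsPGroup.to_sup_of_normal_right' (isPGroup_zpowers hv) hZp hnorm)
    have hle : zpowers v ⊔ Z ≤ centralizer ({v} : Set G) := by
      refine sup_le (zpowers_le.mpr (mem_centralizer_singleton_iff.mpr rfl)) ?_
      rintro _ ⟨z, hz, rfl⟩
      exact mem_centralizer_singleton_iff.mpr (congrArg Subtype.val (mem_center_iff.mp hz ⟨v, hvR⟩)).symm
    have hm2 : 2 ≤ m := by
      by_contra hlt
      have hcard : Nat.card ↥(zpowers v ⊔ Z : Subgroup G) ≤ Nat.card ↥(zpowers v) := by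
        rw [hm, Nat.card_zpowers, hv]
        calc p ^ m ≤ p ^ 1 := Nat.pow_le_pow_right hp.out.pos (by omega)
          _ = p := pow_one p
      have he := eq_of_le_of_card_ge (le_sup_left : zpowers v ≤ zpowers v ⊔ Z) hcard
      have hZv : Z ≤ zpowers v := le_sup_right.trans he.ge
      obtain ⟨⟨z, hz⟩, hz1⟩ := exists_ne (1 : center ↥(R : Subgroup G))
      have hzv : (z : G) ∈ zpowers v := hZv ⟨z, hz, rfl⟩
      have hz1' : (z : G) ≠ 1 := fun e => hz1 (Subtype.ext (Subtype.ext e))
      have hvz' : v ∈ zpowers (z : G) := by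
        have he' : zpowers (z : G) = zpowers v := eq_of_le_of_card_ge (zpowers_le.mpr hzv) (by
          rw [Nat.card_zpowers, Nat.card_zpowers, hv]
          have hd : orderOf (z : G) ∣ p := (orderOf_dvd_of_mem_zpowers hzv).trans hv.dvd
          rcases (Nat.dvd_prime hp.out).mp hd with e | e
          · exact absurd (orderOf_eq_one_iff.mp e) hz1'
          · rw [e])
        exact he' ▸ mem_zpowers v
      obtain ⟨i, hi⟩ := mem_zpowers_iff.mp hvz'
      apply hvz
      have e : (⟨v, hvR⟩ : (R : Subgroup G)) = z ^ i := Subtype.ext (by rw [SubgroupClass.coe_zpow, hi])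
      rw [e]
      exact zpow_mem hz i
    have := Subgroup.card_dvd_of_le hle
    rw [hm] at this
    exact (pow_dvd_pow p hm2).trans this

variable [IsSimpleGroup G]

theorem false_of_16_4320 (h : Nat.card G = 4320) [Fact (Nat.Prime 5)] (P : Sylow 5 G)
    (hn : Nat.card (Sylow 5 G) = 16) : False := by
  have hG := not_isMulCommutative_of_card_eq h (by norm_num)
  have : Fact (Nat.Prime 3) := ⟨Nat.prime_three⟩
  obtain ⟨c, e, hC, hN, he1, he, hne⟩ := sylow_prime_data hG (p := 5) (m := 864) h (by norm_num) P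
  rw [hn] at hne
  have he4 : e ∣ 4 := he
  obtain ⟨rfl, rfl⟩ : c = 27 ∧ e = 2 := by
    have := Nat.le_of_dvd (by norm_num) he4
    interval_cases e <;> omega
  set N := normalizer ((P : Subgroup G) : Set G) with hNdef
  set CP := centralizer ((P : Subgroup G) : Set G) with hCPdef
  have hP5 : Nat.card ↥(P : Subgroup G) = 5 := by
    simpa using card_sylow_eq (p := 5) (a := 1) (m := 864) (by rw [h]; norm_num) (by norm_num) P
  obtain ⟨q, hqP, hq⟩ := exists_mem_orderOf (p := 5) (P : Subgroup G) (by rw [hP5])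
  have hzq := zpowers_eq_sylow P hP5 hqP (ne_one_of_orderOf hq)
  obtain ⟨R, hR⟩ := Sylow.exists_subgroup_card_pow_prime (G := CP) 3 (n := 3) (by rw [hC]; norm_num)
  have hidx : N.index = 16 := P.card_eq_index_normalizer.symm.trans hn
  have hne' : N ≠ ⊤ := fun e => by rw [e, index_top] at hidx; omega
  have hfq : Nat.card (fixedBy (G ⧸ N) q) = 1 := card_fixedBy_sylow_eq_one P hzq le_rfl
  have hd := card_dvd_card_add_of_fixedBy_eq (α := G ⧸ N) (R.map CP.subtype) (f := 1) (by
    rintro _ ⟨g, hg, rfl⟩ hg1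
    have hgq : Commute (g : G) q := (mem_centralizer_iff.mp g.2 q hqP).symm
    have h5 : Nat.card (fixedBy (G ⧸ N) (g : G)) % 5 = 1 :=
      card_fixedBy_modEq_one (isPGroup_zpowers hq) hgq hfq
    have h3 : 16 % 3 = Nat.card (fixedBy (G ⧸ N) (g : G)) % 3 := by
      rw [← hidx]
      refine index_modEq_fix N (((IsPGroup.of_card (n := 3) hR : IsPGroup 3 R).map CP.subtype).to_le ?_)
      exact zpowers_le.mpr ⟨g, hg, rfl⟩
    have hlt : Nat.card (fixedBy (G ⧸ N) (g : G)) < N.index := fix_lt_index hne' hg1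
    rw [hidx] at hlt
    show Nat.card (fixedBy (G ⧸ N) (g : G)) = 1
    omega)
  rw [Nat.card_congr (equivMapOfInjective _ _ CP.subtype_injective).toEquiv.symm, hR, ← index_eq_card, hidx] at hd
  norm_num at hd

end CfsgLib.SmallOrders
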