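import Cfsg.Agent.Lib.SmallOrders.O4320
import Cfsg.Agent.Lib.Involutions.ThompsonTransfer

/-!
Order `4320`: thirty-six Sylow subgroups of order five.
-/

set_option autoImplicit false

universe u

namespace CfsgLib.SmallOrders

open Subgroup MulAction CfsgLib.SmallGroups

variable {G : Type u} [Group G] [Finite G]

/-- In a group of order `60` centralising `P` and with four Sylow `3`-subgroups there are at most
four elements of `2`-power order. -/
theorem card_two_elements_le [Fact (Nat.Prime 5)] {P C : Subgroup G} (hP : Nat.card P = 5)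
    (hPC : P ≤ C) (hcomm : ∀ x ∈ C, ∀ y ∈ P, Commute x y) (hC : Nat.card C = 60) (S : Sylow 3 C)
    (hS : 4 ≤ Nat.card (Sylow 3 C)) : Nat.card {x : C // x ^ 4 = 1} ≤ 4 := by
  classical
  have : Fact (Nat.Prime 3) := ⟨Nat.prime_three⟩
  have := Fintype.ofFinite C
  have hSc : ∀ T : Sylow 3 C, Nat.card ↥(T : Subgroup C) = 3 := fun T => by
    simpa using card_sylow_eq (p := 3) (a := 1) (m := 20) (by rw [hC]; norm_num) (by norm_num) T
  -- elements of order three
  have hex : ∀ T : Sylow 3 C, ∃ y ∈ (T : Subgroup C), orderOf y = 3 := fun T =>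
    exists_mem_orderOf (p := 3) (T : Subgroup C) (by rw [hSc T])
  choose r hrT hr using hex
  let f : Sylow 3 C × Fin 2 → C := fun T => r T.1 ^ ((T.2 : ℕ) + 1)
  have hf3 : ∀ T, f T ^ 3 = 1 ∧ f T ≠ 1 := by
    rintro ⟨T, i⟩
    refine ⟨?_, fun e => ?_⟩
    · have h3 := pow_orderOf_eq_one (r T)
      rw [hr T] at h3
      show (r T ^ ((i : ℕ) + 1)) ^ 3 = 1
      rw [← pow_mul, mul_comm, pow_mul, h3, one_pow]
    · have := orderOf_dvd_of_pow_eq_one e
      rw [hr T] at this
      have := Nat.le_of_dvd (by omega) this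
      fin_cases i <;> simp at *
  have hzp : ∀ T : Sylow 3 C, ∀ y ∈ (T : Subgroup C), y ≠ 1 → zpowers y = (T : Subgroup C) := fun T y hy hy1 =>
    zpowers_eq_sylow T (hSc T) hy hy1
  have hfinj : Function.Injective f := by
    rintro ⟨T, i⟩ ⟨T', j⟩ e
    have h1 := hzp T (f (T, i)) (pow_mem (hrT T) _) (hf3 (T, i)).2
    have h2 := hzp T' (f (T', j)) (pow_mem (hrT T') _) (hf3 (T', j)).2
    rw [e, h2] at h1
    obtain rfl : T' = T := Sylow.ext h1
    have := pow_injOn_Iio_orderOf (x := r T') (show (i : ℕ) + 1 < orderOf (r T') by rw [hr]; omega)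
      (show (j : ℕ) + 1 < orderOf (r T') by rw [hr]; omega) e
    simp only [add_left_inj] at this
    exact Prod.ext rfl (Fin.ext this)
  -- products with `P`
  let Φ : ({x : C // x ^ 4 = 1} ⊕ (Sylow 3 C × Fin 2)) × P → C := fun z =>
    (Sum.elim Subtype.val f z.1) * ⟨(z.2 : G), hPC z.2.2⟩
  have h12 : ∀ z : {x : C // x ^ 4 = 1} ⊕ (Sylow 3 C × Fin 2), (Sum.elim Subtype.val f z : C) ^ 12 = 1 := by
    rintro (x | T)
    · show (x : C) ^ 12 = 1
      rw [show 12 = 4 * 3 from rfl, pow_mul, x.2, one_pow]
    · show f T ^ 12 = 1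
      rw [show 12 = 3 * 4 from rfl, pow_mul, (hf3 T).1, one_pow]
  have hΦ : Function.Injective Φ := by
    rintro ⟨a, y⟩ ⟨a', y'⟩ e
    have hc : ∀ (x : C) (y : P), Commute x (⟨(y : G), hPC y.2⟩ : C) := fun x y =>
      Subtype.ext (hcomm x x.2 y y.2)
    have hy5 : ∀ y : P, (⟨(y : G), hPC y.2⟩ : C) ^ 5 = 1 := fun y => Subtype.ext (by
      show (y : G) ^ 5 = 1
      exact orderOf_dvd_iff_pow_eq_one.mp ((Subgroup.orderOf_dvd_natCard _ y.2).trans hP.dvd))
    have e' : Φ (a, y) ^ 25 = Φ (a', y') ^ 25 := by rw [e]
    simp only [Φ, (hc _ _).mul_pow] at e'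
    have h25 : ∀ x : C, x ^ 12 = 1 → x ^ 25 = x := fun x hx => by
      rw [show 25 = 12 * 2 + 1 from rfl, pow_add, pow_mul, hx, one_pow, one_mul, pow_one]
    have h25' : ∀ y : P, (⟨(y : G), hPC y.2⟩ : C) ^ 25 = 1 := fun y => by
      rw [show 25 = 5 * 5 from rfl, pow_mul, hy5, one_pow]
    rw [h25 _ (h12 a), h25 _ (h12 a'), h25', h25', mul_one, mul_one] at e'
    have ea : a = a' := by
      rcases a with x | T <;> rcases a' with x' | T'
      · exact congrArg Sum.inl (Subtype.ext e')
      · exfalso
        have e'' : (x : C) = f T' := e'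
        have h4 : (f T') ^ 4 = 1 := e'' ▸ x.2
        exact (hf3 T').2 (by
          have := (hf3 T').1
          rw [pow_succ, this, one_mul] at h4
          exact h4)
      · exfalso
        have e'' : f T = (x' : C) := e'
        have h4 : (f T) ^ 4 = 1 := e'' ▸ x'.2
        exact (hf3 T).2 (by
          have := (hf3 T).1
          rw [pow_succ, this, one_mul] at h4
          exact h4)
      · exact congrArg Sum.inr (hfinj e')
    subst ea
    have := mul_left_cancel e
    exact Prod.ext rfl (Subtype.ext (congrArg Subtype.val this :))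
  have := Nat.card_le_card_of_injective Φ hΦ
  rw [Nat.card_prod, Nat.card_sum, Nat.card_prod, hP, hC, Nat.card_eq_fintype_card (α := Fin 2), Fintype.card_fin] at this
  omega

variable [IsSimpleGroup G]

theorem false_of_36_4320 (h : Nat.card G = 4320) [Fact (Nat.Prime 5)] (P : Sylow 5 G)
    (hn : Nat.card (Sylow 5 G) = 36) : False := by
  classical
  have hG := not_isMulCommutative_of_card_eq h (by norm_num)
  have : Fact (Nat.Prime 3) := ⟨Nat.prime_three⟩
  have : Fact (Nat.Prime 2) := ⟨Nat.prime_two⟩
  obtain ⟨c, e, hC, hN, he1, he, hne⟩ := sylow_prime_data hG (p := 5) (m := 864) h (by norm_num) P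
  rw [hn] at hne
  have he4 : e ∣ 4 := he
  have hce : (c = 12 ∧ e = 2) ∨ (c = 6 ∧ e = 4) := by
    have := Nat.le_of_dvd (by norm_num) he4
    interval_cases e <;> omega
  set N := normalizer ((P : Subgroup G) : Set G) with hNdef
  set CP := centralizer ((P : Subgroup G) : Set G) with hCPdef
  have hCN : CP ≤ N := centralizer_le_normalizer _
  have hN120 : Nat.card N = 120 := by rw [hN]; rcases hce with ⟨rfl, rfl⟩ | ⟨rfl, rfl⟩ <;> norm_num
  have hP5 : Nat.card ↥(P : Subgroup G) = 5 := by
    simpa using card_sylow_eq (p := 5) (a := 1) (m := 864) (by rw [h]; norm_num) (by norm_num) P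
  obtain ⟨q, hqP, hq⟩ := exists_mem_orderOf (p := 5) (P : Subgroup G) (by rw [hP5])
  have hzq := zpowers_eq_sylow P hP5 hqP (ne_one_of_orderOf hq)
  have hPCP : (P : Subgroup G) ≤ CP := by
    have : IsCyclic ↥(P : Subgroup G) := isCyclic_of_prime_card hP5
    have : IsMulCommutative ↥(P : Subgroup G) := ⟨⟨fun a b => IsCyclic.commGroup.mul_comm a b⟩⟩
    exact (P : Subgroup G).le_centralizer
  obtain ⟨v, hvC, hv⟩ := exists_mem_orderOf (p := 3) CP
    (by rw [hC]; rcases hce with ⟨rfl, -⟩ | ⟨rfl, -⟩ <;> norm_num)
  have hvq : Commute v q := (mem_centralizer_iff.mp hvC q hqP).symm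
  set H := centralizer ({v} : Set G) with hHdef
  have hPH : (P : Subgroup G) ≤ H := fun y hy =>
    mem_centralizer_singleton_iff.mpr (mem_centralizer_iff.mp hvC y hy)
  have hvH : v ∈ H := mem_centralizer_singleton_iff.mpr rfl
  have h9 : 9 ∣ Nat.card H := sq_dvd_card_centralizer (p := 3) (by rw [h]; norm_num) hv
  obtain ⟨k, hk5, hk, hk36⟩ := sylow_count P hPH
  rw [hn] at hk36
  obtain ⟨j, hj⟩ : 15 ∣ Nat.card ↥(N ⊓ H : Subgroup G) := by
    refine Nat.Coprime.mul_dvd_of_dvd_of_dvd (show Nat.Coprime 5 3 by norm_num) ?_ ?_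
    · rw [← hP5]; exact Subgroup.card_dvd_of_le (le_inf le_normalizer hPH)
    · rw [← hv]; exact Subgroup.orderOf_dvd_natCard _ ⟨hCN hvC, hvH⟩
  have hj8 : j ∣ 8 := by
    have := Subgroup.card_dvd_of_le (inf_le_left : N ⊓ H ≤ N)
    rw [hj, hN120, show 120 = 15 * 8 from rfl] at this
    exact Nat.dvd_of_mul_dvd_mul_left (by norm_num) this
  rw [hj] at hk
  have hjc : j = 1 ∨ j = 2 ∨ j = 4 ∨ j = 8 := by
    have := Nat.le_of_dvd (by norm_num) hj8
    interval_cases j <;> omega
  have hHidx : H.index * Nat.card H = 4320 := by rw [index_mul_card, h]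
  have hHne : H ≠ ⊤ := centralizer_ne_top hG (ne_one_of_orderOf hv)
  have hbig : 8 < H.index := by
    by_contra hle
    have h1 := two_mul_card_dvd_factorial_index hG hHne
    have h2 := h1.trans (Nat.factorial_dvd_factorial (Nat.not_lt.mp hle))
    rw [h, show Nat.factorial 8 = 40320 by decide] at h2
    norm_num at h2
  have hk6 : k = 6 := by
    have h3k : 3 ∣ k := by
      rw [← hk] at h9
      rcases hjc with rfl | rfl | rfl | rfl <;> omega
    have hkc : k = 6 ∨ k = 21 ∨ k = 36 := by omega
    rw [← hk] at hHidx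
    rcases hkc with rfl | rfl | rfl
    · rfl
    · exfalso
      have hd : 21 * (15 * j) ∣ 4320 := ⟨H.index, by rw [← hHidx]; ring⟩
      rcases hjc with rfl | rfl | rfl | rfl <;> norm_num at hd
    · exfalso
      rcases hjc with rfl | rfl | rfl | rfl <;> omega
  subst hk6
  rw [← hk] at hHidx
  rcases hjc with rfl | rfl | rfl | rfl
  · -- `|C(v)| = 90`
    have hH : Nat.card H = 90 := by omega
    obtain ⟨u, hu⟩ := exists_prime_orderOf_dvd_card' (G := H) 2 (by rw [hH]; norm_num)
    obtain ⟨K, hK⟩ := CfsgLib.Involutions.exists_index_two_of_involution_not_conj (M := (⊥ : Subgroup H)) hu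
      (by rw [index_bot, hH]) (fun g hg => by
        rw [mem_bot, mul_inv_eq_one, mul_eq_left] at hg
        exact ne_one_of_orderOf hu hg)
    set K' := K.map H.subtype with hK'
    have hKc : Nat.card K' = 45 := by
      have := K.index_mul_card
      rw [hK, hH] at this
      rw [hK', Nat.card_congr (equivMapOfInjective _ _ H.subtype_injective).toEquiv.symm]
      omega
    have hqK : q ∈ K' := by
      refine ⟨⟨q, hPH hqP⟩, ?_, rfl⟩
      have e : (⟨q, hPH hqP⟩ : H) = ((⟨q, hPH hqP⟩ : H) ^ 2) ^ 3 := Subtype.ext (by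
        show q = (q ^ 2) ^ 3
        rw [← pow_mul, show 2 * 3 = orderOf q + 1 by rw [hq], pow_succ, pow_orderOf_eq_one, one_mul])
      rw [e]
      exact pow_mem (sq_mem_of_index_two hK _) 3
    have hPK : (P : Subgroup G) ≤ K' := hzq ▸ zpowers_le.mpr hqK
    obtain ⟨k', hk'5, hk', -⟩ := sylow_count P hPK
    rw [hKc] at hk'
    have hd := Subgroup.card_dvd_of_le (inf_le_inf_left N (map_subtype_le K) : N ⊓ K' ≤ N ⊓ H)
    rw [hj] at hd
    have h5 : 5 ∣ Nat.card ↥(N ⊓ K' : Subgroup G) := hP5 ▸ Subgroup.card_dvd_of_le (le_inf le_normalizer hPK)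
    have := Nat.le_of_dvd (by norm_num) hd
    obtain ⟨l, hl⟩ := h5
    have hl3 : l ≤ 3 := by omega
    rw [hl] at hk'
    interval_cases l <;> omega
  · -- `|C(v)| = 180`
    have hH : Nat.card H = 180 := by omega
    have hNH : Nat.card ↥(N ⊓ H : Subgroup G) = 30 := hj
    -- `⟨v⟩` is not normal in `N`
    obtain ⟨n₀, hn₀N, hn₀⟩ : ∃ n ∈ N, n * v * n⁻¹ ∉ zpowers v := by
      by_contra hcon
      push Not at hcon
      have hor : ∀ n ∈ N, n * v * n⁻¹ = v ∨ n * v * n⁻¹ = v⁻¹ := by
        intro n hn'
        have hm := hcon n hn'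
        rw [mem_zpowers_iff_mem_range_orderOf, hv, Finset.mem_image] at hm
        obtain ⟨i, hi, he'⟩ := hm
        rw [Finset.mem_range] at hi
        interval_cases i
        · exfalso
          rw [pow_zero, eq_comm, mul_inv_eq_one, mul_eq_left] at he'
          exact ne_one_of_orderOf hv he'
        · left; rw [← he', pow_one]
        · right
          rw [← he', eq_comm, inv_eq_iff_mul_eq_one, ← pow_succ', show 2 + 1 = orderOf v by rw [hv],
            pow_orderOf_eq_one]
      by_cases hall : ∀ n ∈ N, n * v * n⁻¹ = v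
      · have hle : N ≤ N ⊓ H := fun n hn' => ⟨hn', mem_centralizer_singleton_iff.mpr
          (mul_inv_eq_iff_eq_mul.mp (hall n hn'))⟩
        have := Subgroup.card_le_of_le hle
        omega
      · push Not at hall
        obtain ⟨n₁, hn₁, hn₁'⟩ := hall
        have hn₁i := (hor n₁ hn₁).resolve_left hn₁'
        let F : (↥(N ⊓ H : Subgroup G)) ⊕ (↥(N ⊓ H : Subgroup G)) → N :=
          Sum.elim (fun x => ⟨x, x.2.1⟩) (fun x => ⟨n₁ * x, mul_mem hn₁ x.2.1⟩)
        have hF : Function.Surjective F := by
          rintro ⟨n, hn'⟩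
          rcases hor n hn' with e | e
          · exact ⟨Sum.inl ⟨n, hn', mem_centralizer_singleton_iff.mpr (mul_inv_eq_iff_eq_mul.mp e)⟩, rfl⟩
          · refine ⟨Sum.inr ⟨n₁⁻¹ * n, mem_inf.mpr ⟨mul_mem (inv_mem hn₁) hn', ?_⟩⟩, Subtype.ext (mul_inv_cancel_left n₁ n)⟩
            refine mem_centralizer_singleton_iff.mpr (mul_inv_eq_iff_eq_mul.mp ?_)
            rw [show n₁⁻¹ * n * v * (n₁⁻¹ * n)⁻¹ = n₁⁻¹ * (n * v * n⁻¹) * n₁ by group, e, ← hn₁i]
            group
        have := Nat.card_le_card_of_surjective F hF
        rw [Nat.card_sum, hNH, hN120] at this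
        omega
    set w := n₀ * v * n₀⁻¹ with hw
    have hwC : w ∈ CP := by
      refine mem_centralizer_iff.mpr fun a ha => ?_
      have ha' : n₀⁻¹ * a * n₀ ∈ ((P : Subgroup G) : Set G) := by
        have := (mem_normalizer_iff.mp (inv_mem hn₀N) a).mp ha
        rwa [inv_inv] at this
      calc a * (n₀ * v * n₀⁻¹) = n₀ * ((n₀⁻¹ * a * n₀) * v) * n₀⁻¹ := by group
        _ = n₀ * (v * (n₀⁻¹ * a * n₀)) * n₀⁻¹ := by rw [mem_centralizer_iff.mp hvC _ ha']
        _ = n₀ * v * n₀⁻¹ * a := by group
    have hwo : orderOf w = 3 := (MulEquiv.orderOf_eq (MulAut.conj n₀) v).trans hv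
    have hv' : orderOf (⟨v, hvC⟩ : CP) = 3 := by rw [← Subgroup.orderOf_coe]; exact hv
    have hw' : orderOf (⟨w, hwC⟩ : CP) = 3 := by rw [← Subgroup.orderOf_coe]; exact hwo
    obtain ⟨S, hS⟩ := (isPGroup_zpowers hv').exists_le_sylow
    obtain ⟨S', hS'⟩ := (isPGroup_zpowers hw').exists_le_sylow
    have hSc : Nat.card ↥(S : Subgroup CP) = 3 := by
      rcases hce with ⟨rfl, -⟩ | ⟨rfl, -⟩
      · simpa using card_sylow_eq (p := 3) (a := 1) (m := 20) (by rw [hC]; norm_num) (by norm_num) S
      · simpa using card_sylow_eq (p := 3) (a := 1) (m := 10) (by rw [hC]; norm_num) (by norm_num) S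
    have hSv := zpowers_eq_sylow S hSc (hS (mem_zpowers _)) (ne_one_of_orderOf hv')
    have hSS' : S' ≠ S := fun e => by
      have := hS' (mem_zpowers _)
      rw [e, ← hSv] at this
      obtain ⟨i, hi⟩ := mem_zpowers_iff.mp this
      exact hn₀ (mem_zpowers_iff.mpr ⟨i, congrArg Subtype.val hi⟩)
    have hn3 : Nat.card (Sylow 3 CP) ≠ 1 := fun e => hSS' ((Nat.card_eq_one_iff_unique.mp e).1.elim S' S)
    have h15 : 15 ∣ Nat.card ↥(normalizer ((S : Subgroup CP) : Set CP)) := by
      refine Nat.Coprime.mul_dvd_of_dvd_of_dvd (show Nat.Coprime 5 3 by norm_num) ?_ ?_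
      · have hle : (P : Subgroup G).subgroupOf CP ≤ normalizer ((S : Subgroup CP) : Set CP) := by
          refine le_trans ?_ (centralizer_le_normalizer _)
          intro y hy
          refine mem_centralizer_iff.mpr fun r _ => Subtype.ext ?_
          exact (mem_centralizer_iff.mp r.2 (y : G) hy).symm
        have := Subgroup.card_dvd_of_le hle
        rwa [Nat.card_congr (subgroupOfEquivOfLe hPCP).toEquiv, hP5] at this
      · exact hSc.symm.dvd.trans (Subgroup.card_dvd_of_le le_normalizer)
    have hmul := card_sylow_mul_card_normalizer S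
    obtain ⟨rfl, rfl⟩ : c = 12 ∧ e = 2 := by
      refine hce.resolve_right fun hh => ?_
      obtain ⟨rfl, rfl⟩ := hh
      rw [hC] at hmul
      have h' := card_sylow_mem (G := CP) (p := 3) (a := 1) (m := 10) (by rw [hC]; norm_num) (by norm_num)
      rw [show (Nat.divisors 10).filter (fun d => d % 3 = 1) = {1, 10} by decide] at h'
      simp only [Finset.mem_insert, Finset.mem_singleton] at h'
      rcases h' with h' | h'
      · exact hn3 h'
      · rw [h'] at hmul
        obtain ⟨l, hl⟩ := h15
        omega
    rw [hC] at hmul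
    have hn4 : Nat.card (Sylow 3 CP) = 4 := by
      have h' := card_sylow_mem (G := CP) (p := 3) (a := 1) (m := 20) (by rw [hC]; norm_num) (by norm_num)
      rw [show (Nat.divisors 20).filter (fun d => d % 3 = 1) = {1, 4, 10} by decide] at h'
      simp only [Finset.mem_insert, Finset.mem_singleton] at h'
      obtain ⟨l, hl⟩ := h15
      rcases h' with h' | h' | h'
      · exact absurd h' hn3
      · exact h'
      · rw [h', hl] at hmul; omega
    have hCv15 : ∀ y ∈ CP, Commute y v → orderOf y ≠ 2 := by
      intro y hyC hyv hy2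
      have hyN : (⟨y, hyC⟩ : CP) ∈ normalizer ((S : Subgroup CP) : Set CP) := by
        refine centralizer_le_normalizer _ (mem_centralizer_iff.mpr fun r hr => ?_)
        have hr' : r ∈ (S : Subgroup CP) := hr
        rw [← hSv] at hr'
        obtain ⟨i, rfl⟩ := mem_zpowers_iff.mp hr'
        exact ((show Commute (⟨y, hyC⟩ : CP) ⟨v, hvC⟩ from Subtype.ext hyv).zpow_right i).symm.eq
      have h2 := Subgroup.orderOf_dvd_natCard _ hyN
      rw [← Subgroup.orderOf_coe] at h2
      have h2' : (2 : ℕ) ∣ Nat.card ↥(normalizer ((S : Subgroup CP) : Set CP)) := hy2 ▸ h2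
      rw [hn4] at hmul
      omega
    -- the four-group `V`
    obtain ⟨W₀⟩ := (inferInstance : Nonempty (Sylow 2 N))
    set W : Subgroup G := (W₀ : Subgroup N).map N.subtype with hWdef
    have hW : Nat.card W = 8 := by
      rw [hWdef, Nat.card_congr (equivMapOfInjective _ _ N.subtype_injective).toEquiv.symm]
      simpa using card_sylow_eq (p := 2) (a := 3) (m := 15) (by rw [hN120]; norm_num) (by norm_num) W₀
    have hWN : W ≤ N := map_subtype_le _
    obtain ⟨V₀⟩ := (inferInstance : Nonempty (Sylow 2 CP))
    set V : Subgroup G := (V₀ : Subgroup CP).map CP.subtype with hVdef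
    have hV : Nat.card V = 4 := by
      rw [hVdef, Nat.card_congr (equivMapOfInjective _ _ CP.subtype_injective).toEquiv.symm]
      simpa using card_sylow_eq (p := 2) (a := 2) (m := 15) (by rw [hC]; norm_num) (by norm_num) V₀
    have hVC : V ≤ CP := map_subtype_le _
    have hVmem : ∀ x ∈ CP, x ^ 4 = 1 → x ∈ V := by
      have hle := card_two_elements_le (P := (P : Subgroup G)) hP5 hPCP
        (fun x hx y hy => (mem_centralizer_iff.mp hx y hy).symm) (by rw [hC]) S hn4.ge
      let ι : V → {x : CP // x ^ 4 = 1} := fun x => ⟨⟨x, hVC x.2⟩, Subtype.ext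
        (orderOf_dvd_iff_pow_eq_one.mp ((Subgroup.orderOf_dvd_natCard _ x.2).trans hV.dvd))⟩
      have hinj : Function.Injective ι := fun a b e' => Subtype.ext (congrArg (fun z => ((z.1 : CP) : G)) e')
      have hbij := (Nat.bijective_iff_injective_and_card ι).mpr
        ⟨hinj, le_antisymm (Nat.card_le_card_of_injective ι hinj) (by rw [hV]; exact hle)⟩
      intro x hx hx4
      obtain ⟨a, ha⟩ := hbij.2 ⟨⟨x, hx⟩, Subtype.ext hx4⟩
      have : (a : G) = x := congrArg (fun z => ((z.1 : CP) : G)) ha
      exact this ▸ a.2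
    have hVcomm : ∀ a ∈ V, ∀ b ∈ V, Commute a b := fun a ha b hb => by
      have : IsMulCommutative V := IsPGroup.isMulCommutative_of_card_eq_prime_sq (p := 2) (hV.trans rfl)
      exact congrArg Subtype.val (this.is_comm.comm (⟨a, ha⟩ : V) ⟨b, hb⟩)
    have hVnorm : ∀ n ∈ N, ∀ a ∈ V, n * a * n⁻¹ ∈ V := by
      intro n hn' a ha
      refine hVmem _ ?_ ?_
      · refine mem_centralizer_iff.mpr fun b hb => ?_
        have hb' : n⁻¹ * b * n ∈ ((P : Subgroup G) : Set G) := by
          have := (mem_normalizer_iff.mp (inv_mem hn') b).mp hb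
          rwa [inv_inv] at this
        calc b * (n * a * n⁻¹) = n * ((n⁻¹ * b * n) * a) * n⁻¹ := by group
          _ = n * (a * (n⁻¹ * b * n)) * n⁻¹ := by rw [mem_centralizer_iff.mp (hVC ha) _ hb']
          _ = n * a * n⁻¹ * b := by group
      · rw [conj_pow, orderOf_dvd_iff_pow_eq_one.mp ((Subgroup.orderOf_dvd_natCard _ ha).trans hV.dvd)]
        group
    -- an involution of `V` central in `W`
    letI : MulAction W V :=
      { smul := fun x a => ⟨x * a * (x : G)⁻¹, hVnorm x (hWN x.2) a a.2⟩
        one_smul := fun a => Subtype.ext (by show (1 : G) * a * (1 : G)⁻¹ = a; group)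
        mul_smul := fun x y a => Subtype.ext (by
          show ((x : G) * y) * a * ((x : G) * y)⁻¹ = x * (y * a * (y : G)⁻¹) * (x : G)⁻¹
          group) }
    obtain ⟨⟨b, hbV⟩, hbfix, hb1⟩ := (IsPGroup.of_card (n := 3) (hW.trans rfl) :
      IsPGroup 2 W).exists_fixed_point_of_prime_dvd_card_of_fixed_point V
      (by rw [hV]; norm_num) (a := 1)
      (fun x => Subtype.ext (by show (x : G) * 1 * (x : G)⁻¹ = 1; group))
    have hb1' : b ≠ 1 := fun e' => hb1 (Subtype.ext e'.symm)
    obtain ⟨t, htV, ht, htW⟩ : ∃ t ∈ V, orderOf t = 2 ∧ ∀ x ∈ W, Commute x t := by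
      have hbc : ∀ x ∈ W, Commute x b := fun x hx =>
        mul_inv_eq_iff_eq_mul.mp (congrArg Subtype.val (hbfix ⟨x, hx⟩))
      have hd : orderOf b ∣ 4 := (Subgroup.orderOf_dvd_natCard _ hbV).trans hV.dvd
      have := Nat.le_of_dvd (by norm_num) hd
      have h1 : orderOf b ≠ 1 := fun e' => hb1' (orderOf_eq_one_iff.mp e')
      by_cases h4 : orderOf b = 4
      · refine ⟨b ^ 2, pow_mem hbV 2, ?_, fun x hx => (hbc x hx).pow_right 2⟩
        rw [orderOf_pow' b (by norm_num), h4]; norm_num
      · refine ⟨b, hbV, ?_, hbc⟩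
        interval_cases (orderOf b) <;> omega
    set Ct := centralizer ({t} : Set G) with hCt
    have hPt : (P : Subgroup G) ≤ Ct := fun y hy =>
      mem_centralizer_singleton_iff.mpr (mem_centralizer_iff.mp (hVC htV) y hy)
    have htq : Commute t q := (mem_centralizer_iff.mp (hVC htV) q hqP).symm
    have h40 : Nat.card ↥(N ⊓ Ct : Subgroup G) = 40 := by
      have hd : 40 ∣ Nat.card ↥(N ⊓ Ct : Subgroup G) := by
        refine Nat.Coprime.mul_dvd_of_dvd_of_dvd (show Nat.Coprime 5 8 by norm_num) ?_ ?_
        · rw [← hP5]; exact Subgroup.card_dvd_of_le (le_inf le_normalizer hPt)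
        · rw [← hW]
          exact Subgroup.card_dvd_of_le (le_inf hWN fun x hx => mem_centralizer_singleton_iff.mpr (htW x hx))
      have hd' := Subgroup.card_dvd_of_le (inf_le_left : N ⊓ Ct ≤ N)
      rw [hN120] at hd'
      have hle := Nat.le_of_dvd (by norm_num) hd'
      obtain ⟨l, hl⟩ := hd
      by_contra hne40
      have h120 : Nat.card ↥(N ⊓ Ct : Subgroup G) = 120 := by
        have : l ≤ 3 := by omega
        have := Nat.card_pos (α := (N ⊓ Ct : Subgroup G))
        rw [hl] at hd' hne40 ⊢
        interval_cases l <;> first | omega | (norm_num at hd')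
      have hall := eq_of_le_of_card_ge (inf_le_left : N ⊓ Ct ≤ N) (by rw [h120, hN120])
      have htv : v ∈ Ct := ((show N ≤ N ⊓ Ct from hall.ge) (hCN hvC)).2
      exact hCv15 t (hVC htV) (mem_centralizer_singleton_iff.mp htv).symm ht
    obtain ⟨kt, hkt5, hkt, hkt36⟩ := sylow_count P hPt
    rw [h40] at hkt
    rw [hn] at hkt36
    have hCtidx : Ct.index * Nat.card Ct = 4320 := by rw [index_mul_card, h]
    rw [← hkt] at hCtidx
    have hktd : kt ∣ 108 := ⟨Ct.index, Nat.eq_of_mul_eq_mul_right (show 0 < 40 by norm_num) (by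
      rw [show 108 * 40 = Ct.index * (kt * 40) from hCtidx.symm]; ring)⟩
    have hktc : kt = 1 ∨ kt = 6 ∨ kt = 36 := by
      have hmem : kt ∈ (Nat.divisors 108).filter (fun d => d % 5 = 1) :=
        Finset.mem_filter.mpr ⟨Nat.mem_divisors.mpr ⟨hktd, by norm_num⟩, hkt5⟩
      rw [show (Nat.divisors 108).filter (fun d => d % 5 = 1) = {1, 6, 36} by decide +kernel] at hmem
      simp only [Finset.mem_insert, Finset.mem_singleton] at hmem
      omega
    rcases hktc with rfl | rfl | rfl
    · -- forty-eight conjugates of `t` in `N`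
      have hidx : N.index = 36 := P.card_eq_index_normalizer.symm.trans hn
      have hne' : N ≠ ⊤ := fun e' => by rw [e', index_top] at hidx; omega
      have hfix : Nat.card (fixedBy (G ⧸ N) t) = 16 := by
        have h1 : Nat.card (fixedBy (G ⧸ N) t) % 5 = 1 :=
          card_fixedBy_modEq_one (isPGroup_zpowers hq) htq (card_fixedBy_sylow_eq_one P hzq le_rfl)
        have h2 : 4 ∣ Nat.card (G ⧸ N) - Nat.card (fixedBy (G ⧸ N) t) :=
          four_dvd_moved hG (ht ▸ pow_orderOf_eq_one t)
        rw [← index_eq_card, hidx] at h2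
        have h3 := fix_lt_index hne' (ne_one_of_orderOf ht)
        omega
      have h1 := fix_mul_card N t
      rw [hfix, hN120, ← hCt, ← hkt] at h1
      have := Fintype.ofFinite G
      set M := Finset.univ.filter (fun x : G => IsConj t x ∧ x ∈ N) with hM
      have hMc : M.card = 48 := by
        rw [hM, ← Fintype.card_subtype, ← Nat.card_eq_fintype_card]
        omega
      have hMinv : ∀ x ∈ M, x ∈ N ∧ x * x = 1 ∧ x ≠ 1 := by
        intro x hx
        obtain ⟨hc, hxN⟩ := (Finset.mem_filter.mp hx).2
        obtain ⟨g, rfl⟩ := isConj_iff.mp hc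
        refine ⟨hxN, ?_, fun e' => ?_⟩
        · rw [show g * t * g⁻¹ * (g * t * g⁻¹) = g * (t * t) * g⁻¹ by group, ← pow_two, ← ht,
            pow_orderOf_eq_one]
          group
        · rw [mul_inv_eq_one, mul_eq_left] at e'
          exact ne_one_of_orderOf ht e'
      have hMV : (M.filter fun x => x ∈ CP).card ≤ 3 := by
        have hsub : (M.filter fun x => x ∈ CP) ⊆ (Finset.univ.filter fun x : G => x ∈ V).erase 1 := by
          intro x hx
          obtain ⟨hxM, hxC⟩ := Finset.mem_filter.mp hx
          obtain ⟨-, hxx, hx1⟩ := hMinv x hxM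
          refine Finset.mem_erase.mpr ⟨hx1, Finset.mem_filter.mpr ⟨Finset.mem_univ _, hVmem x hxC ?_⟩⟩
          rw [show (4 : ℕ) = 2 * 2 from rfl, pow_mul, pow_two x, hxx, one_pow]
        have := Finset.card_le_card hsub
        rw [Finset.card_erase_of_mem (by simp [one_mem]), ← Fintype.card_subtype, ← Nat.card_eq_fintype_card,
          show Nat.card {x : G // x ∈ V} = Nat.card V from rfl, hV] at this
        exact this
      set O := M.filter (fun x => x ∉ CP) with hO
      have hOc : 45 ≤ O.card := by
        have := Finset.card_filter_add_card_filter_not (s := M) (fun x => x ∈ CP)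
        rw [← hO] at this
        omega
      obtain ⟨x₀, hx₀⟩ := Finset.card_pos.mp (show 0 < O.card by omega)
      -- every element outside `C(P)` moves some element of `V`
      by_cases hcentV : ∃ x ∈ O, ∀ a ∈ V, Commute x a
      · obtain ⟨x₁, hx₁O, hx₁V⟩ := hcentV
        obtain ⟨hx₁M, hx₁C⟩ := Finset.mem_filter.mp hx₁O
        have hx₁N := (hMinv x₁ hx₁M).1
        let K : Subgroup N := (centralizer (V : Set G)).subgroupOf N
        have hKn : K.Normal := ⟨fun a ha n => mem_subgroupOf.mpr (mem_centralizer_iff.mpr fun z hz => by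
          have hz' : (n : G)⁻¹ * z * n ∈ (V : Set G) := by
            have := hVnorm (n : G)⁻¹ (inv_mem n.2) z hz
            rwa [inv_inv] at this
          have hc := mem_centralizer_iff.mp (mem_subgroupOf.mp ha) _ hz'
          show z * ((n : G) * a * (n : G)⁻¹) = (n : G) * a * (n : G)⁻¹ * z
          calc z * ((n : G) * a * (n : G)⁻¹) = (n : G) * (((n : G)⁻¹ * z * n) * a) * (n : G)⁻¹ := by group
            _ = (n : G) * ((a : G) * ((n : G)⁻¹ * z * n)) * (n : G)⁻¹ := by rw [hc]
            _ = (n : G) * a * (n : G)⁻¹ * z := by group)⟩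
        have hK : Nat.card K ∣ 120 := hN120 ▸ card_subgroup_dvd_card K
        have h5K : 5 ∣ Nat.card K := by
          have := Subgroup.orderOf_dvd_natCard K (x := ⟨q, le_normalizer hqP⟩)
            (mem_subgroupOf.mpr (mem_centralizer_iff.mpr fun z hz => (mem_centralizer_iff.mp (hVC hz) q hqP).symm))
          rwa [← Subgroup.orderOf_coe, hq] at this
        have h8K : 8 ∣ Nat.card K := by
          have hle : V ⊔ zpowers x₁ ≤ N ⊓ centralizer (V : Set G) := sup_le
            (le_inf (hVC.trans hCN) fun a ha => mem_centralizer_iff.mpr fun z hz => (hVcomm z hz a ha).eq)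
            (zpowers_le.mpr ⟨hx₁N, mem_centralizer_iff.mpr fun z hz => (hx₁V z hz).eq.symm⟩)
          have hp : IsPGroup 2 ↥(zpowers x₁ ⊔ V : Subgroup G) :=
            IsPGroup.to_sup_of_normal_right' (isPGroup_zpowers (orderOf_eq_prime
              (by rw [pow_two]; exact (hMinv x₁ hx₁M).2.1) (hMinv x₁ hx₁M).2.2))
              (IsPGroup.of_card (n := 2) (hV.trans rfl))
              (zpowers_le.mpr (mem_normalizer_fintype fun a ha => hVnorm x₁ hx₁N a ha))
          obtain ⟨m, hm⟩ := IsPGroup.iff_card.mp hp
          have hm3 : 3 ≤ m := by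
            by_contra hlt
            have hc : Nat.card ↥(zpowers x₁ ⊔ V : Subgroup G) ≤ Nat.card V := by
              rw [hm, hV]
              calc 2 ^ m ≤ 2 ^ 2 := Nat.pow_le_pow_right (by norm_num) (by omega)
                _ = 4 := by norm_num
            have := eq_of_le_of_card_ge (le_sup_right : V ≤ zpowers x₁ ⊔ V) hc
            exact hx₁C (hVC (this.ge (mem_sup_left (mem_zpowers x₁))))
          have hd := Subgroup.card_dvd_of_le hle
          rw [sup_comm, hm] at hd
          have e' : Nat.card K = Nat.card ↥(N ⊓ centralizer (V : Set G) : Subgroup G) := by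
            rw [Nat.card_congr (equivMapOfInjective K N.subtype N.subtype_injective).toEquiv,
              show K.map N.subtype = centralizer (V : Set G) ⊓ N from subgroupOf_map_subtype _ _, inf_comm]
          rw [e']
          exact (pow_dvd_pow 2 hm3).trans hd
        have h3K : ¬ 3 ∣ Nat.card K := by
          intro h3
          obtain ⟨⟨r, hrK⟩, hr⟩ := exists_prime_orderOf_dvd_card' (G := K) 3 h3
          have hr3 : orderOf (r : G) = 3 :=
            (Subgroup.orderOf_coe r).trans ((Subgroup.orderOf_coe (⟨r, hrK⟩ : K)).trans hr)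
          have hrC : (r : G) ∈ CP := by
            have hidx2 : (CP.subgroupOf N).index = 2 := by
              have := (CP.subgroupOf N).index_mul_card
              rw [Nat.card_congr (subgroupOfEquivOfLe hCN).toEquiv, hC, hN120] at this
              omega
            have h2 : (r : G) ^ 2 ∈ CP := sq_mem_of_index_two hidx2 r
            have e' : (r : G) = ((r : G) ^ 2) ^ 2 := by
              rw [← pow_mul, show 2 * 2 = orderOf (r : G) + 1 by rw [hr3], pow_succ, pow_orderOf_eq_one, one_mul]
            rw [e']; exact pow_mem h2 2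
          -- `r` normalises a Sylow subgroup containing `v`
          have hrt : Commute (r : G) t :=
            (mem_centralizer_iff.mp (mem_subgroupOf.mp hrK) t htV).symm
          have hd := Subgroup.orderOf_dvd_natCard (N ⊓ Ct) (x := (r : G))
            ⟨r.2, mem_centralizer_singleton_iff.mpr hrt⟩
          rw [hr3, h40] at hd
          norm_num at hd
        have hK40 : Nat.card K = 40 := by
          have h40K : 40 ∣ Nat.card K := Nat.Coprime.mul_dvd_of_dvd_of_dvd (show Nat.Coprime 5 8 by norm_num) h5K h8K
          obtain ⟨l, hl⟩ := h40K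
          have := Nat.le_of_dvd (by norm_num) hK
          have := Nat.card_pos (α := K)
          have : l ≤ 3 := by omega
          have h3' : l ≠ 3 := fun e' => h3K ⟨40, by rw [hl, e']⟩
          rw [hl] at hK ⊢
          interval_cases l <;> first | omega | (norm_num at hK)
        have hKidx : K.index = 3 := by
          have := K.index_mul_card
          rw [hK40, hN120] at this
          omega
        have hMK : ∀ x ∈ M, x ∈ N ⊓ centralizer (V : Set G) := by
          intro x hx
          obtain ⟨hxN, hxx, -⟩ := hMinv x hx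
          have h3 : (⟨x, hxN⟩ : N) ^ 3 ∈ K := hKidx ▸ pow_index_mem K _
          have e' : (⟨x, hxN⟩ : N) ^ 3 = ⟨x, hxN⟩ := Subtype.ext (by
            show x ^ 3 = x
            rw [pow_succ, pow_two, hxx, one_mul])
          rw [e'] at h3
          exact ⟨hxN, mem_subgroupOf.mp h3⟩
        let g : {x // x ∈ M} → K := fun x =>
          ⟨⟨x.1, (hMK x x.2).1⟩, mem_subgroupOf.mpr (hMK x x.2).2⟩
        have := Nat.card_le_card_of_injective g fun a b e' =>
          Subtype.ext (congrArg (fun z : K => ((z : N) : G)) e')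
        rw [Nat.card_eq_fintype_card, Fintype.card_coe, hMc, hK40] at this
        omega
      · push Not at hcentV
        obtain ⟨d, hdV, hdt⟩ : ∃ d ∈ V, d ∉ zpowers t := by
          by_contra hcon
          push Not at hcon
          have := Subgroup.card_le_of_le (hcon : V ≤ zpowers t)
          rw [hV, Nat.card_zpowers, ht] at this
          omega
        set A := O.filter (fun x => ¬ Commute x t) with hA
        set B := O.filter (fun x => ¬ Commute x d) with hB
        have hAB : O ⊆ A ∪ B := by
          intro x hx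
          rw [Finset.mem_union]
          by_contra hcon
          push Not at hcon
          obtain ⟨h1, h2⟩ := hcon
          have ht' : Commute x t := not_not.mp fun h' => h1 (Finset.mem_filter.mpr ⟨hx, h'⟩)
          have hd' : Commute x d := not_not.mp fun h' => h2 (Finset.mem_filter.mpr ⟨hx, h'⟩)
          obtain ⟨a, ha, hxa⟩ := hcentV x hx
          refine hxa ?_
          -- `V = ⟨t, d⟩`
          have hle : zpowers t ⊔ zpowers d ≤ centralizer ({x} : Set G) := sup_le
            (zpowers_le.mpr (mem_centralizer_singleton_iff.mpr ht'.symm))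
            (zpowers_le.mpr (mem_centralizer_singleton_iff.mpr hd'.symm))
          have hsupV : zpowers t ⊔ zpowers d ≤ V := sup_le (zpowers_le.mpr htV) (zpowers_le.mpr hdV)
          have heq : zpowers t ⊔ zpowers d = V := by
            refine eq_of_le_of_card_ge hsupV ?_
            have hd1 := Subgroup.card_dvd_of_le (le_sup_left : zpowers t ≤ zpowers t ⊔ zpowers d)
            have hd2 := Subgroup.card_dvd_of_le hsupV
            rw [Nat.card_zpowers, ht] at hd1
            rw [hV] at hd2 ⊢
            have hne2 : Nat.card ↥(zpowers t ⊔ zpowers d : Subgroup G) ≠ 2 := fun e' => by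
              have := eq_of_le_of_card_ge (le_sup_left : zpowers t ≤ zpowers t ⊔ zpowers d)
                (by rw [e', Nat.card_zpowers, ht])
              exact hdt (this.ge (mem_sup_right (mem_zpowers d)))
            have := Nat.le_of_dvd (by norm_num) hd2
            interval_cases (Nat.card ↥(zpowers t ⊔ zpowers d : Subgroup G)) <;> omega
          exact (mem_centralizer_singleton_iff.mp (hle (heq.ge ha))).symm
        -- `x ↦ x z` leaves the involutions
        have hout : ∀ z ∈ V, z * z = 1 → ∀ S₀ : Finset G, S₀ ⊆ O → (∀ x ∈ S₀, ¬ Commute x z) →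
            S₀.card + O.card ≤ 60 := by
          intro z hz hzz S₀ hS₀ hmove
          have hdisj : Disjoint (S₀.image (· * z)) O := by
            rw [Finset.disjoint_left]
            intro y hy hyO
            obtain ⟨x, hx, rfl⟩ := Finset.mem_image.mp hy
            obtain ⟨-, hxx, -⟩ := hMinv x (Finset.mem_filter.mp (hS₀ hx)).1
            obtain ⟨-, hyy, -⟩ := hMinv _ (Finset.mem_filter.mp hyO).1
            refine hmove x hx ?_
            show x * z = z * x
            calc x * z = x * z * ((x * z * (x * z))⁻¹) := by rw [hyy, inv_one, mul_one]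
              _ = z⁻¹ * x⁻¹ := by group
              _ = z * x := by
                rw [inv_eq_of_mul_eq_one_right hzz, inv_eq_of_mul_eq_one_right hxx]
          have hsub : S₀.image (· * z) ∪ O ⊆ Finset.univ.filter (fun y : G => y ∈ N ∧ y ∉ CP) := by
            intro y hy
            refine Finset.mem_filter.mpr ⟨Finset.mem_univ _, ?_⟩
            rcases Finset.mem_union.mp hy with hy | hy
            · obtain ⟨x, hx, rfl⟩ := Finset.mem_image.mp hy
              obtain ⟨hxM, hxC⟩ := Finset.mem_filter.mp (hS₀ hx)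
              refine ⟨mul_mem (hMinv x hxM).1 (hCN (hVC hz)), fun h' => hxC ?_⟩
              have := mul_mem h' (inv_mem (hVC hz))
              rwa [mul_inv_cancel_right] at this
            · obtain ⟨hyM, hyC⟩ := Finset.mem_filter.mp hy
              exact ⟨(hMinv y hyM).1, hyC⟩
          have := Finset.card_le_card hsub
          rw [Finset.card_union_of_disjoint hdisj, Finset.card_image_of_injective _ (mul_left_injective z)] at this
          refine this.trans (le_of_eq ?_)
          have e1 : (Finset.univ.filter fun y : G => y ∈ N ∧ y ∉ CP) =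
              (Finset.univ.filter fun y : G => y ∈ N) \ (Finset.univ.filter fun y : G => y ∈ CP) := by
            ext y; simp
          rw [e1, Finset.card_sdiff_of_subset (fun y hy => by simpa using hCN (Finset.mem_filter.mp hy).2),
            ← Fintype.card_subtype, ← Fintype.card_subtype, ← Nat.card_eq_fintype_card, ← Nat.card_eq_fintype_card]
          show Nat.card N - Nat.card CP = 60
          rw [hN120, hC]
        have hAc := hout t htV (by rw [← pow_two, ← ht, pow_orderOf_eq_one]) A (Finset.filter_subset _ _)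
          (fun x hx => (Finset.mem_filter.mp hx).2)
        have hd2 : d * d = 1 := by
          by_contra hne2
          have hd4 : orderOf d = 4 := by
            have hd' : orderOf d ∣ 4 := (Subgroup.orderOf_dvd_natCard _ hdV).trans hV.dvd
            have := Nat.le_of_dvd (by norm_num) hd'
            have h2' : ¬ orderOf d ∣ 2 := fun h' => hne2 (by rw [← pow_two]; exact orderOf_dvd_iff_pow_eq_one.mp h')
            interval_cases (orderOf d) <;> omega
          -- a cyclic `V` would be centralised by `v`
          have hVd : zpowers d = V := eq_of_le_of_card_ge (zpowers_le.mpr hdV) (by rw [Nat.card_zpowers, hd4, hV])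
          have honly : ∀ y ∈ V, y * y = 1 → y ≠ 1 → y = d ^ 2 := by
            intro y hy hyy hy1
            rw [← hVd, mem_zpowers_iff_mem_range_orderOf, hd4, Finset.mem_image] at hy
            obtain ⟨i, hi, rfl⟩ := hy
            rw [Finset.mem_range] at hi
            rw [← pow_add] at hyy
            have hd' := orderOf_dvd_of_pow_eq_one hyy
            rw [hd4] at hd'
            interval_cases i
            · exact absurd (pow_zero d) hy1
            · omega
            · rfl
            · omega
          have htt : t * t = 1 := by rw [← pow_two, ← ht, pow_orderOf_eq_one]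
          have e1 := honly t htV htt (ne_one_of_orderOf ht)
          have e2 := honly (v * t * v⁻¹) (hVnorm v (hCN hvC) t htV)
            (by rw [show v * t * v⁻¹ * (v * t * v⁻¹) = v * (t * t) * v⁻¹ by group, htt]; group)
            (fun e' => ne_one_of_orderOf ht (by rwa [mul_inv_eq_one, mul_eq_left] at e'))
          exact hCv15 t (hVC htV) (mul_inv_eq_iff_eq_mul.mp (e2.trans e1.symm)).symm ht
        have hBc := hout d hdV hd2 B (Finset.filter_subset _ _) (fun x hx => (Finset.mem_filter.mp hx).2)
        have := (Finset.card_le_card hAB).trans (Finset.card_union_le A B)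
        omega
    · -- index eighteen
      have hidx : Ct.index = 18 := by omega
      have hne' : Ct ≠ ⊤ := fun e' => by rw [e', index_top] at hidx; omega
      have hfq : Nat.card (fixedBy (G ⧸ Ct) q) = 3 := by
        rw [card_fixedBy_sylow P hzq hPt, ← hNdef]
        have h' := relIndex_mul_relIndex ⊥ (N ⊓ Ct) N bot_le inf_le_left
        rw [relIndex_bot_left, relIndex_bot_left, inf_relIndex_left, h40, hN120] at h'
        omega
      have hcommon : Nat.card {a : G ⧸ Ct // t • a = a ∧ q • a = a} = 3 := by
        rw [← hfq]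
        refine Nat.card_congr (Equiv.subtypeEquivRight fun a => ⟨fun ha => ha.2, fun ha => ⟨?_, ha⟩⟩)
        -- a point fixed by `q` is `n C(t)` with `n ∈ N`
        have hfix : fixedBy (G ⧸ Ct) q = Set.range (fun n : N => ((n : G) : G ⧸ Ct)) := by
          refine (Set.eq_of_subset_of_ncard_le ?_ ?_ (Set.toFinite _)).symm
          · rintro _ ⟨n, rfl⟩
            rw [mem_fixedBy, MulAction.Quotient.smul_coe, smul_eq_mul, QuotientGroup.eq]
            have hm : (n : G)⁻¹ * q * n ∈ (P : Subgroup G) := by
              have := (mem_normalizer_iff.mp (inv_mem n.2) q).mp hqP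
              rwa [inv_inv] at this
            rw [show (q * (n : G))⁻¹ * n = ((n : G)⁻¹ * q * n)⁻¹ by group]
            exact inv_mem (hPt hm)
          · rw [← Nat.card_coe_set_eq, ← Nat.card_coe_set_eq, hfq]
            let emb : N ⧸ Ct.subgroupOf N → Set.range (fun n : N => ((n : G) : G ⧸ Ct)) :=
              Quotient.lift (fun n => ⟨((n : G) : G ⧸ Ct), n, rfl⟩) fun a b hab => Subtype.ext
                (QuotientGroup.eq.mpr (mem_subgroupOf.mp (QuotientGroup.leftRel_apply.mp hab) :))
            have hemb : Function.Injective emb := by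
              rintro ⟨a⟩ ⟨b⟩ e'
              have := congrArg Subtype.val e'
              exact QuotientGroup.eq.mpr (mem_subgroupOf.mpr (QuotientGroup.eq.mp this :))
            have := Nat.card_le_card_of_injective emb hemb
            rw [← index_eq_card] at this
            have h' := (Ct.subgroupOf N).index_mul_card
            rw [Nat.card_congr (equivMapOfInjective (Ct.subgroupOf N) N.subtype N.subtype_injective).toEquiv,
              subgroupOf_map_subtype, inf_comm, h40, hN120] at h'
            omega
        have ha' : a ∈ fixedBy (G ⧸ Ct) q := ha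
        rw [hfix] at ha'
        obtain ⟨n, rfl⟩ := ha'
        rw [MulAction.Quotient.smul_coe, smul_eq_mul, QuotientGroup.eq]
        have hm : (n : G)⁻¹ * t * n ∈ V := by
          have := hVnorm (n : G)⁻¹ (inv_mem n.2) t htV
          rwa [inv_inv] at this
        rw [show (t * (n : G))⁻¹ * n = ((n : G)⁻¹ * t * n)⁻¹ by group]
        exact inv_mem (mem_centralizer_singleton_iff.mpr (hVcomm _ hm t htV).eq)
      have h1 : Nat.card (fixedBy (G ⧸ Ct) t) % 5 = 3 % 5 := by
        have := card_fixedBy_modEq_common (α := G ⧸ Ct) (isPGroup_zpowers hq) htq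
        rw [hcommon] at this
        exact this
      have h2 : 4 ∣ Nat.card (G ⧸ Ct) - Nat.card (fixedBy (G ⧸ Ct) t) :=
        four_dvd_moved hG (ht ▸ pow_orderOf_eq_one t)
      rw [← index_eq_card, hidx] at h2
      have h3 := fix_lt_index hne' (ne_one_of_orderOf ht)
      rw [hidx] at h3
      omega
    · have hidx : Ct.index = 3 := by omega
      have h1 := two_mul_card_dvd_factorial_index hG (fun e' : Ct = ⊤ => by rw [e', index_top] at hidx; omega)
      rw [hidx, h, show Nat.factorial 3 = 6 by decide] at h1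
      norm_num at h1
  · -- `|C(v)| = 360`
    have hidx : H.index = 12 := by omega
    have hfq : Nat.card (fixedBy (G ⧸ H) q) = 2 := by
      rw [card_fixedBy_sylow P hzq hPH, ← hNdef]
      have h' := relIndex_mul_relIndex ⊥ (N ⊓ H) N bot_le inf_le_left
      rw [relIndex_bot_left, relIndex_bot_left, inf_relIndex_left, hj, hN120] at h'
      omega
    have hcommon : Nat.card {a : G ⧸ H // v • a = a ∧ q • a = a} = 2 := by
      rw [← hfq]
      refine Nat.card_congr (Equiv.subtypeEquivRight fun a => ⟨fun ha => ha.2, fun ha => ⟨?_, ha⟩⟩)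
      have hinv : ∀ b, b ∈ fixedBy (G ⧸ H) q → v • b ∈ fixedBy (G ⧸ H) q := fun b hb =>
        smul_mem_fixedBy hvq hb
      by_contra hne2
      have hv3 : v • v • v • a = a := by
        rw [smul_smul, smul_smul, ← pow_two, ← pow_succ, show 2 + 1 = orderOf v by rw [hv],
          pow_orderOf_eq_one, one_smul]
      have n1 : v • v • a ≠ v • a := fun e' => hne2 (smul_left_cancel v e')
      have n2 : v • v • a ≠ a := fun e' => hne2 (by
        have := congrArg (v • ·) e'
        simp only [hv3] at this
        exact this.symm)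
      have := Fintype.ofFinite (G ⧸ H)
      have hsub : ({a, v • a, v • v • a} : Finset (G ⧸ H)) ⊆ Finset.univ.filter (fun b => b ∈ fixedBy (G ⧸ H) q) := by
        intro b hb
        simp only [Finset.mem_insert, Finset.mem_singleton] at hb
        rcases hb with rfl | rfl | rfl <;> simp only [Finset.mem_filter, Finset.mem_univ, true_and]
        · exact ha
        · exact hinv _ ha
        · exact hinv _ (hinv _ ha)
      have h3 := Finset.card_le_card hsub
      rw [← Fintype.card_subtype, ← Nat.card_eq_fintype_card,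
        show Nat.card {b : G ⧸ H // b ∈ fixedBy (G ⧸ H) q} = 2 from hfq,
        Finset.card_insert_of_notMem (by simp [Ne.symm hne2, n2.symm]),
        Finset.card_insert_of_notMem (by simp [n1.symm]), Finset.card_singleton] at h3
      omega
    have h1 : Nat.card (fixedBy (G ⧸ H) v) % 5 = 2 % 5 := by
      have := card_fixedBy_modEq_common (α := G ⧸ H) (isPGroup_zpowers hq) hvq
      rw [hcommon] at this
      exact this
    have h2 : 12 % 3 = Nat.card (fixedBy (G ⧸ H) v) % 3 := by
      rw [← hidx]; exact index_modEq_fix H (isPGroup_zpowers hv)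
    have h3 := fix_lt_index hHne (ne_one_of_orderOf hv)
    rw [hidx] at h3
    omega
  · omega

end CfsgLib.SmallOrders
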